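import Cfsg.Prelude.Def_LinearParabolics
import Mathlib.LinearAlgebra.Matrix.NonsingularInverse

/-!
# Permutation matrices and the Bruhat decomposition of the general linear group
-/

set_option autoImplicit false

namespace CfsgLib.GLn

open Finset Matrix
open scoped MatrixGroups

variable {n : ℕ} {F : Type*} [Field F]

/-- The matrix sending the `j`-th basis column to the `s j`-th one. -/
def permMat (F : Type*) [Field F] (s : Equiv.Perm (Fin n)) : Matrix (Fin n) (Fin n) F :=
  Matrix.of fun i j => if s j = i then 1 else 0

theorem permMat_mul (s t : Equiv.Perm (Fin n)) :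
    permMat F s * permMat F t = permMat F (s * t) := by
  ext i j
  rw [Matrix.mul_apply, Finset.sum_eq_single (t j)]
  · simp only [permMat, Matrix.of_apply, if_true, mul_one, Equiv.Perm.mul_apply]
    rfl
  · intro k _ hk
    simp [permMat, Ne.symm hk]
  · simp

theorem permMat_one : permMat F (1 : Equiv.Perm (Fin n)) = 1 := by
  ext i j
  simp [permMat, Matrix.one_apply, eq_comm]

/-- Permutation matrices as a homomorphism. -/
def permGL (F : Type*) [Field F] : Equiv.Perm (Fin n) →* GL (Fin n) F where
  toFun s := ⟨permMat F s, permMat F s⁻¹, by rw [permMat_mul, mul_inv_cancel, permMat_one],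
    by rw [permMat_mul, inv_mul_cancel, permMat_one]⟩
  map_one' := Units.ext permMat_one
  map_mul' s t := Units.ext (permMat_mul s t).symm

theorem permGL_apply (s : Equiv.Perm (Fin n)) (i j : Fin n) :
    ((permGL F s : GL (Fin n) F) : Matrix (Fin n) (Fin n) F) i j = if s j = i then 1 else 0 := rfl

/-- The Bruhat decomposition: every invertible matrix is upper triangular times a permutation matrix
times upper triangular. -/
theorem exists_bruhat (g : GL (Fin n) F) :
    ∃ (s : Equiv.Perm (Fin n)), ∃ b ∈ Cfsg.upperTriangularGL n F, ∃ u ∈ Cfsg.upperTriangularGL n F,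
      g = b * permGL F s * u := by
  classical
  let M : Matrix (Fin n) (Fin n) F := g
  let ok : Fin n → ℕ → Prop := fun i k => ∃ c : Fin n → F, (∀ j, j ≤ i → c j = 0) ∧
    ∀ col : Fin n, col.val < k → ((Pi.single i 1 + c) ᵥ* M) col = 0
  have hok : ∀ i, ok i 0 := fun i => ⟨0, fun _ _ => rfl, fun col h => absurd h (Nat.not_lt_zero _)⟩
  let L : Fin n → ℕ := fun i => Nat.findGreatest (ok i) n
  have hLspec : ∀ i, ok i (L i) := fun i => Nat.findGreatest_spec (Nat.zero_le n) (hok i)
  have hLle : ∀ i, L i ≤ n := fun i => Nat.findGreatest_le n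
  have hLlt : ∀ i, L i < n := by
    intro i
    refine lt_of_le_of_ne (hLle i) fun h => ?_
    obtain ⟨c, hc, hz⟩ := hLspec i
    have hzero : (Pi.single i 1 + c) ᵥ* M = 0 := funext fun col => hz col (by rw [h]; exact col.isLt)
    have hu : IsUnit M := g.isUnit
    have := (Matrix.vecMul_injective_iff_isUnit.2 hu) (hzero.trans (Matrix.zero_vecMul M).symm)
    have := congrFun this i
    simp [hc i le_rfl] at this
  choose c hc0 hcz using hLspec
  let Lf : Fin n → Fin n := fun i => ⟨L i, hLlt i⟩
  let H : Fin n → Fin n → F := fun i => (Pi.single i 1 + c i) ᵥ* M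
  have hlead : ∀ i, H i (Lf i) ≠ 0 := by
    intro i h
    have : ok i (L i + 1) := ⟨c i, hc0 i, fun col hcol => by
      rcases Nat.lt_succ_iff_lt_or_eq.1 hcol with h' | h'
      · exact hcz i col h'
      · exact (Fin.ext h' : col = Lf i) ▸ h⟩
    have := Nat.le_findGreatest (hLlt i) this
    exact Nat.not_succ_le_self _ this
  have hinj : Function.Injective Lf := by
    suffices hw : ∀ i j, i < j → Lf i ≠ Lf j by
      intro i j h
      rcases lt_trichotomy i j with h' | h' | h'
      · exact absurd h (hw i j h')
      · exact h'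
      · exact absurd h.symm (hw j i h')
    intro i j hij heq
    let α : F := -(H i (Lf i) / H j (Lf i))
    have hv : L i = L j := congrArg Fin.val heq
    have : ok i (L i + 1) := by
      refine ⟨c i + α • (Pi.single j 1 + c j), fun k hk => ?_, fun col hcol => ?_⟩
      · have h1 : k ≠ j := (lt_of_le_of_lt hk hij).ne
        simp [hc0 i k hk, hc0 j k (le_trans hk hij.le), h1]
      · rw [← add_assoc, Matrix.add_vecMul, Matrix.smul_vecMul, Pi.add_apply, Pi.smul_apply,
          smul_eq_mul]
        change H i col + α * H j col = 0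
        rcases Nat.lt_succ_iff_lt_or_eq.1 hcol with h' | h'
        · rw [show H i col = 0 from hcz i col h', show H j col = 0 from hcz j col (hv ▸ h')]
          ring
        · rw [(Fin.ext h' : col = Lf i)]
          have : H j (Lf i) ≠ 0 := by rw [heq]; exact hlead j
          simp only [α]
          field_simp
          ring
    exact Nat.not_succ_le_self _ (Nat.le_findGreatest (hLlt i) this)
  let e : Equiv.Perm (Fin n) := Equiv.ofBijective Lf (Finite.injective_iff_bijective.1 hinj)
  let B : Matrix (Fin n) (Fin n) F := Matrix.of fun i => Pi.single i 1 + c i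
  have hBt : B.IsUpperTriangular := fun i j hij => by
    change j < i at hij
    simp [B, hc0 i j hij.le, hij.ne]
  have hBdet : B.det = 1 := by
    rw [Matrix.det_of_isUpperTriangular hBt]
    exact Finset.prod_eq_one fun i _ => by simp [B, hc0 i i le_rfl]
  let b : GL (Fin n) F := Matrix.GeneralLinearGroup.mkOfDetNeZero B (by rw [hBdet]; exact one_ne_zero)
  have hb : b ∈ Cfsg.upperTriangularGL n F := hBt
  refine ⟨e⁻¹, b⁻¹, inv_mem hb, permGL F e * (b * g), ?_, ?_⟩
  · intro i j hij
    change j < i at hij
    rw [Units.val_mul, Units.val_mul, Matrix.mul_apply, Finset.sum_eq_single (e.symm i)]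
    · rw [permGL_apply, if_pos (e.apply_symm_apply i), one_mul]
      refine hcz (e.symm i) j ?_
      have h1 : Lf (e.symm i) = i := e.apply_symm_apply i
      have h2 : L (e.symm i) = i.val := congrArg Fin.val h1
      rw [h2]
      exact hij
    · intro k _ hk
      rw [permGL_apply, if_neg fun h => hk (by rw [← h, Equiv.symm_apply_apply]), zero_mul]
    · simp
  · rw [mul_assoc, ← mul_assoc (permGL F e⁻¹), ← map_mul, inv_mul_cancel, map_one, one_mul,
      inv_mul_cancel_left]

end CfsgLib.GLn
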