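import Cfsg.Agent.GLn.Tables
import Cfsg.Agent.Char.PermChar
import Cfsg.Agent.Char.Generalized
import Cfsg.Agent.Char.Inner

/-!
# The characters of the general linear group indexed by partitions
-/

set_option autoImplicit false

namespace CfsgLib.GLn

open Finset
open scoped MatrixGroups ComplexConjugate

universe u

variable {n : ℕ} {F : Type u} [Field F]

theorem fixedPointCharacter_eq_permChar {G : Type u} [Group G] [Fintype G] (H : Subgroup G) :
    Cfsg.fixedPointCharacter H = CfsgLib.Char.permChar H :=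
  funext fun g => (CfsgLib.Char.permChar_apply H g).symm

theorem isCharacter_fixedPointCharacter {G : Type u} [Group G] [Fintype G] (H : Subgroup G) :
    Cfsg.IsCharacter G (Cfsg.fixedPointCharacter H) := by
  rw [fixedPointCharacter_eq_permChar]
  exact CfsgLib.Char.IsCharacter.indFun CfsgLib.Char.isCharacter_one

theorem sum_shift {ν : Fin n → ℕ} (hs : ∑ i, ν i = n) {κ : Equiv.Perm (Fin n)}
    (hκ : ∀ i, (κ i).val ≤ ν i + i.val) : ∑ i, (ν i + i.val - (κ i).val) = n :=
  (sum_shift_sub ν κ hκ).trans hs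

variable [Fintype (GL (Fin n) F)]

theorem classInner_parabolic {c d : Fin n → ℕ} (hc : ∑ i, c i = n) (hd : ∑ i, d i = n) :
    Cfsg.classInner (Cfsg.fixedPointCharacter (Cfsg.parabolicGL n F c))
      (Cfsg.fixedPointCharacter (Cfsg.parabolicGL n F d)) = (margCard c d : ℂ) := by
  have hne : (Nat.card (GL (Fin n) F) : ℂ) ≠ 0 := by exact_mod_cast Nat.card_pos.ne'
  rw [CfsgLib.Char.classInner_def]
  have : ∀ g : GL (Fin n) F, Cfsg.fixedPointCharacter (Cfsg.parabolicGL n F c) g *
      conj (Cfsg.fixedPointCharacter (Cfsg.parabolicGL n F d) g) =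
      Cfsg.fixedPointCharacter (Cfsg.parabolicGL n F c) g *
        Cfsg.fixedPointCharacter (Cfsg.parabolicGL n F d) g := fun g => by
    simp [Cfsg.fixedPointCharacter]
  rw [Finset.sum_congr rfl fun g _ => this g, sum_parabolic hc hd, inv_mul_cancel_left₀ hne]

theorem unipotentCharacterGL_eq_sum (ν : Fin n → ℕ) :
    Cfsg.unipotentCharacterGL n F ν = ∑ κ : Equiv.Perm (Fin n),
      (if ∀ i : Fin n, (κ i).val ≤ ν i + i.val then ((Equiv.Perm.sign κ : ℤ) : ℂ) else 0) •
        Cfsg.fixedPointCharacter (Cfsg.parabolicGL n F fun i => ν i + i.val - (κ i).val) := by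
  funext g
  rw [Cfsg.unipotentCharacterGL, Finset.sum_apply]
  refine Finset.sum_congr rfl fun κ _ => ?_
  rw [Pi.smul_apply, smul_eq_mul]
  split_ifs <;> ring

theorem isGeneralized_unipotent (ν : Fin n → ℕ) :
    Cfsg.IsGeneralizedCharacter (GL (Fin n) F) (Cfsg.unipotentCharacterGL n F ν) := by
  rw [unipotentCharacterGL_eq_sum]
  refine CfsgLib.Char.isGeneralized_sum _ fun κ _ => ?_
  have h := CfsgLib.Char.IsCharacter.isGeneralized
    (isCharacter_fixedPointCharacter (Cfsg.parabolicGL n F fun i => ν i + i.val - (κ i).val))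
  split_ifs
  · exact CfsgLib.Char.IsGeneralized.intCast_smul h _
  · rw [zero_smul]
    exact CfsgLib.Char.isGeneralized_zero

theorem classInner_unipotent_parabolic {ν : Fin n → ℕ} (hs : ∑ i, ν i = n) {c : Fin n → ℕ}
    (hc : ∑ i, c i = n) :
    Cfsg.classInner (Cfsg.unipotentCharacterGL n F ν)
      (Cfsg.fixedPointCharacter (Cfsg.parabolicGL n F c)) = (altMarg ν c : ℂ) := by
  rw [unipotentCharacterGL_eq_sum, CfsgLib.Char.classInner_sum_left, altMarg, Int.cast_sum]
  refine Finset.sum_congr rfl fun κ _ => ?_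
  rw [CfsgLib.Char.classInner_smul_left]
  split_ifs with h
  · rw [classInner_parabolic (sum_shift hs h) hc]
    push_cast
    ring
  · simp

theorem classInner_unipotent {ν μ : Fin n → ℕ} (hν : Monotone ν) (hνs : ∑ i, ν i = n)
    (hμ : Monotone μ) (hμs : ∑ i, μ i = n) :
    Cfsg.classInner (Cfsg.unipotentCharacterGL n F ν) (Cfsg.unipotentCharacterGL n F μ) =
      if ν = μ then 1 else 0 := by
  rw [unipotentCharacterGL_eq_sum μ, CfsgLib.Char.classInner_sum_right]
  have h := congrArg (fun z : ℤ => (z : ℂ)) (sum_altMarg ν μ hν hμ)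
  simp only [Int.cast_sum, Int.cast_ite, Int.cast_zero, Int.cast_one, Int.cast_mul] at h
  refine Eq.trans ?_ h
  refine Finset.sum_congr rfl fun τ _ => ?_
  rw [CfsgLib.Char.classInner_smul_right]
  split_ifs with ht
  · rw [classInner_unipotent_parabolic hνs (sum_shift hμs ht)]
    simp
  · simp

theorem isIrrCharacter_unipotent {ν : Fin n → ℕ} (hν : Monotone ν) (hνs : ∑ i, ν i = n) :
    Cfsg.IsIrrCharacter (GL (Fin n) F) (Cfsg.unipotentCharacterGL n F ν) := by
  have h1 := classInner_unipotent (F := F) hν hνs hν hνs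
  rw [if_pos rfl] at h1
  rcases CfsgLib.Char.IsGeneralized.isIrr_or_neg (isGeneralized_unipotent ν) h1 with h | h
  · exact h
  · exfalso
    obtain ⟨k, hk⟩ := CfsgLib.Char.IsCharacter.exists_classInner_eq_natCast'
      (CfsgLib.Char.IsIrrCharacter.isCharacter h)
      (isCharacter_fixedPointCharacter (Cfsg.parabolicGL n F ν))
    rw [CfsgLib.Char.classInner_neg_left, classInner_unipotent_parabolic hνs hνs, altMarg_self hν,
      Int.cast_one] at hk
    have h2 := congrArg Complex.re hk
    simp only [Complex.neg_re, Complex.one_re, Complex.natCast_re] at h2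
    have := Nat.cast_nonneg (α := ℝ) k
    linarith

theorem eq_of_unipotent_eq {ν μ : Fin n → ℕ} (hν : Monotone ν) (hνs : ∑ i, ν i = n)
    (hμ : Monotone μ) (hμs : ∑ i, μ i = n)
    (h : Cfsg.unipotentCharacterGL n F ν = Cfsg.unipotentCharacterGL n F μ) : ν = μ := by
  have h1 := classInner_unipotent (F := F) hν hνs hν hνs
  have h2 := classInner_unipotent (F := F) hν hνs hμ hμs
  rw [← h, h1, if_pos rfl] at h2
  by_contra hne
  rw [if_neg hne] at h2
  exact one_ne_zero h2

end CfsgLib.GLn
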