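import Cfsg.Agent.GLn.Tables
import Mathlib.LinearAlgebra.Matrix.GeneralLinearGroup.Card
import Mathlib.GroupTheory.Coset.Card

/-!
# The number of partial flags and the degrees of the characters indexed by partitions
-/

set_option autoImplicit false

namespace CfsgLib.GLn

open Finset Matrix Polynomial
open scoped MatrixGroups

variable {n : ℕ}

/-- The `q`-integer. -/
def qInt (q r : ℕ) : ℕ := ∑ l ∈ range r, q ^ l

/-- The `q`-factorial. -/
def qFact (q m : ℕ) : ℕ := ∏ j ∈ range m, qInt q (j + 1)

theorem qFact_pos {q : ℕ} (hq : 0 < q) (m : ℕ) : 0 < qFact q m :=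
  Finset.prod_pos fun j _ => Finset.sum_pos (fun l _ => pow_pos hq l) ⟨0, by simp⟩

theorem qInt_add (q a b : ℕ) : qInt q (a + b) = qInt q a + q ^ a * qInt q b := by
  simp only [qInt, Finset.sum_range_add, Finset.mul_sum, pow_add]

theorem qFact_mul_falling (q a k : ℕ) (hk : k ≤ a) :
    qFact q (a - k) * ∏ t ∈ range k, qInt q (a - t) = qFact q a := by
  induction k with
  | zero => simp
  | succ k ih =>
    rw [Finset.prod_range_succ, ← mul_assoc, mul_comm (qFact q (a - (k + 1))) _, mul_assoc,
      ← ih (by omega), show a - k = (a - (k + 1)) + 1 by omega, qFact, qFact,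
      Finset.prod_range_succ _ (a - (k + 1))]
    ring

/-- The sum of the numbers below `m`. -/
def triangle (m : ℕ) : ℕ := ∑ i ∈ range m, i

theorem two_triangle (m : ℕ) : 2 * triangle m + m = m * m := by
  induction m with
  | zero => rfl
  | succ m ih =>
    rw [triangle, Finset.sum_range_succ]
    rw [triangle] at ih
    linarith

theorem prod_gl_formula {q : ℕ} (hq : 1 ≤ q) (m : ℕ) :
    ∏ i ∈ range m, (q ^ m - q ^ i) = q ^ triangle m * (q - 1) ^ m * qFact q m := by
  induction m with
  | zero => simp [triangle, qFact]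
  | succ m ih =>
    have hgeo : (q - 1) * qInt q (m + 1) = q ^ (m + 1) - 1 := by
      obtain ⟨t, rfl⟩ : ∃ t, q = t + 1 := ⟨q - 1, by omega⟩
      rw [Nat.add_sub_cancel, ← geom_sum_mul_add t (m + 1), Nat.add_sub_cancel, qInt, mul_comm]
    rw [Finset.prod_range_succ', pow_zero, triangle, Finset.sum_range_succ, qFact,
      Finset.prod_range_succ]
    have h2 : ∀ i ∈ range m, q ^ (m + 1) - q ^ (i + 1) = q * (q ^ m - q ^ i) := fun i _ => by
      rw [Nat.mul_sub, pow_succ', pow_succ']
    rw [Finset.prod_congr rfl h2, Finset.prod_mul_distrib, Finset.prod_const, Finset.card_range, ih,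
      ← hgeo, pow_add, pow_succ (q - 1) m, triangle, qFact]
    ring

variable {F : Type*} [Field F] [Fintype F]

theorem card_GL_eq {ι : Type*} [Fintype ι] [DecidableEq ι] {m : ℕ} (hm : Fintype.card ι = m) :
    Nat.card (GL ι F) =
      Fintype.card F ^ triangle m * (Fintype.card F - 1) ^ m * qFact (Fintype.card F) m := by
  rw [← prod_gl_formula Fintype.card_pos m, Finset.prod_range, ← Matrix.card_GL_field]
  exact Nat.card_congr (Units.mapEquiv
    (Matrix.reindexAlgEquiv F F (Fintype.equivFinOfCardEq hm)).toMulEquiv).toEquiv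

variable {c : Fin n → ℕ} (hc : ∑ i, c i = n)

/-- The block triangular matrix with given diagonal blocks and given entries above them. -/
def blockMat (A : ∀ a : Fin n, Matrix {i : Fin n // blockOf hc i = a} {i : Fin n // blockOf hc i = a} F)
    (f : {p : Fin n × Fin n // blockOf hc p.1 < blockOf hc p.2} → F) : Matrix (Fin n) (Fin n) F :=
  Matrix.of fun i j =>
    if h : blockOf hc j = blockOf hc i then A (blockOf hc i) ⟨i, rfl⟩ ⟨j, h⟩
    else if h' : blockOf hc i < blockOf hc j then f ⟨(i, j), h'⟩ else 0

omit [Fintype F] in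
theorem blockTriangular_blockMat
    (A : ∀ a : Fin n, Matrix {i : Fin n // blockOf hc i = a} {i : Fin n // blockOf hc i = a} F)
    (f : {p : Fin n × Fin n // blockOf hc p.1 < blockOf hc p.2} → F) :
    (blockMat hc A f).BlockTriangular (blockOf hc) := fun i j hij => by
  rw [blockMat, Matrix.of_apply, dif_neg hij.ne, dif_neg (not_lt.2 hij.le)]

omit [Fintype F] in
theorem toSquareBlock_blockMat
    (A : ∀ a : Fin n, Matrix {i : Fin n // blockOf hc i = a} {i : Fin n // blockOf hc i = a} F)
    (f : {p : Fin n × Fin n // blockOf hc p.1 < blockOf hc p.2} → F) (a : Fin n) :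
    (blockMat hc A f).toSquareBlock (blockOf hc) a = A a := by
  ext ⟨i, hi⟩ ⟨j, hj⟩
  subst hi
  simp only [Matrix.toSquareBlock_def, Matrix.of_apply, blockMat]
  rw [dif_pos hj]

/-- A block triangular matrix is its diagonal blocks and its entries above them. -/
noncomputable def parabolicEquiv :
    Cfsg.parabolicGL n F c ≃
      (∀ a : Fin n, GL {i : Fin n // blockOf hc i = a} F) ×
        ({p : Fin n × Fin n // blockOf hc p.1 < blockOf hc p.2} → F) where
  toFun g :=
    (fun a => Matrix.GeneralLinearGroup.mkOfDetNeZero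
        ((g.1 : Matrix (Fin n) (Fin n) F).toSquareBlock (blockOf hc) a) (by
      have hbt : (g.1 : Matrix (Fin n) (Fin n) F).BlockTriangular (blockOf hc) := g.2
      have hd : (g.1 : Matrix (Fin n) (Fin n) F).det ≠ 0 :=
        ((Matrix.isUnit_iff_isUnit_det _).1 g.1.isUnit).ne_zero
      rw [hbt.det_fintype, Finset.prod_ne_zero_iff] at hd
      exact hd a (mem_univ a)),
    fun p => (g.1 : Matrix (Fin n) (Fin n) F) p.1.1 p.1.2)
  invFun x :=
    ⟨Matrix.GeneralLinearGroup.mkOfDetNeZero
      (blockMat (F := F) hc (fun a => (x.1 a).val) x.2) (by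
      rw [(blockTriangular_blockMat hc _ _).det_fintype, Finset.prod_ne_zero_iff]
      intro a _
      rw [toSquareBlock_blockMat]
      exact ((Matrix.isUnit_iff_isUnit_det _).1 (x.1 a).isUnit).ne_zero),
    fun _ _ hij => blockTriangular_blockMat hc (fun a => (x.1 a).val) x.2 hij⟩
  left_inv g := by
    refine Subtype.ext (Units.ext ?_)
    ext i j
    change blockMat (F := F) hc (fun a => (g.1 : Matrix (Fin n) (Fin n) F).toSquareBlock (blockOf hc) a)
      (fun p => (g.1 : Matrix (Fin n) (Fin n) F) p.1.1 p.1.2) i j = _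
    rw [blockMat, Matrix.of_apply]
    split_ifs with h h'
    · rfl
    · rfl
    · exact ((show (g.1 : Matrix (Fin n) (Fin n) F).BlockTriangular (blockOf hc) from g.2)
        (lt_of_le_of_ne (not_lt.1 h') h)).symm
  right_inv x := by
    refine Prod.ext (funext fun a => Units.ext ?_) (funext fun p => ?_)
    · change (blockMat hc (fun a => (x.1 a).val) x.2).toSquareBlock (blockOf hc) a = (x.1 a).val
      rw [toSquareBlock_blockMat]
    · change blockMat hc (fun a => (x.1 a).val) x.2 p.1.1 p.1.2 = x.2 p
      rw [blockMat, Matrix.of_apply, dif_neg p.2.ne', dif_pos p.2]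

include hc in
theorem card_parabolic :
    Nat.card (Cfsg.parabolicGL n F c) =
      Fintype.card F ^ triangle n * (Fintype.card F - 1) ^ n * ∏ a, qFact (Fintype.card F) (c a) := by
  classical
  rw [Nat.card_congr (parabolicEquiv hc), Nat.card_prod, Nat.card_pi, Nat.card_fun,
    Finset.prod_congr rfl fun a _ => card_GL_eq (F := F) (m := c a)
      (by rw [Fintype.card_subtype]; exact card_blockOf_fiber hc a),
    Finset.prod_mul_distrib, Finset.prod_mul_distrib, Finset.prod_pow_eq_pow_sum,
    Finset.prod_pow_eq_pow_sum, hc, Nat.card_eq_fintype_card (α := F)]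
  have hN : ∑ a, triangle (c a) + Nat.card {p : Fin n × Fin n // blockOf hc p.1 < blockOf hc p.2} =
      triangle n := by
    have hlt : Nat.card {p : Fin n × Fin n // blockOf hc p.1 < blockOf hc p.2} =
        Nat.card {p : Fin n × Fin n // blockOf hc p.2 < blockOf hc p.1} :=
      Nat.card_congr ((Equiv.prodComm _ _).subtypeEquiv fun p => Iff.rfl)
    have heq : (univ.filter fun p : Fin n × Fin n => blockOf hc p.1 = blockOf hc p.2).card =
        ∑ a, c a * c a := by
      rw [Finset.card_eq_sum_card_fiberwise (f := fun p : Fin n × Fin n => blockOf hc p.1) (t := univ)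
        fun p _ => mem_univ _]
      refine Finset.sum_congr rfl fun a _ => ?_
      rw [← card_blockOf_fiber hc a, ← Finset.card_product, Finset.filter_filter]
      refine congrArg Finset.card ?_
      ext p
      simp only [mem_filter, mem_univ, true_and, mem_product]
      exact ⟨fun h => ⟨h.2, h.1 ▸ h.2⟩, fun h => ⟨h.1.trans h.2.symm, h.1⟩⟩
    have htot : n * n =
        (univ.filter fun p : Fin n × Fin n => blockOf hc p.1 < blockOf hc p.2).card +
        (univ.filter fun p : Fin n × Fin n => blockOf hc p.2 < blockOf hc p.1).card +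
        (univ.filter fun p : Fin n × Fin n => blockOf hc p.1 = blockOf hc p.2).card := by
      simp only [Finset.card_filter, ← Finset.sum_add_distrib]
      rw [Finset.sum_congr rfl fun p _ => show _ = 1 from ?_]
      · simp
      · rcases lt_trichotomy (blockOf hc p.1) (blockOf hc p.2) with h | h | h
        · rw [if_pos h, if_neg (not_lt.2 h.le), if_neg h.ne]
        · rw [if_neg h.not_lt, if_neg h.not_gt, if_pos h]
        · rw [if_neg (not_lt.2 h.le), if_pos h, if_neg h.ne']
    have h2 : 2 * (∑ a, triangle (c a)) + n = ∑ a, c a * c a := by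
      conv_lhs => enter [2]; rw [← hc]
      rw [Finset.mul_sum, ← Finset.sum_add_distrib]
      exact Finset.sum_congr rfl fun a _ => two_triangle (c a)
    have h3 := two_triangle n
    simp only [Nat.card_eq_fintype_card, Fintype.card_subtype] at hlt ⊢
    omega
  rw [← hN, pow_add]
  ring

include hc in
theorem index_parabolic :
    Nat.card (GL (Fin n) F ⧸ Cfsg.parabolicGL n F c) * ∏ a, qFact (Fintype.card F) (c a) =
      qFact (Fintype.card F) n := by
  classical
  have h := Subgroup.card_eq_card_quotient_mul_card_subgroup (Cfsg.parabolicGL n F c)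
  rw [card_GL_eq (F := F) (Fintype.card_fin n), card_parabolic hc] at h
  have hq : 1 < Fintype.card F := Fintype.one_lt_card
  have hne : Fintype.card F ^ triangle n * (Fintype.card F - 1) ^ n ≠ 0 :=
    mul_ne_zero (pow_ne_zero _ (by omega)) (pow_ne_zero _ (by omega))
  refine mul_left_cancel₀ hne ?_
  rw [h]
  ring

theorem prod_qInt_sub_mul (q a k : ℕ) :
    ((∏ t ∈ range k, qInt q (a - t) : ℕ) : ℂ) * (q : ℂ) ^ triangle k =
      ∏ t ∈ range k, ((qInt q a : ℂ) - (qInt q t : ℂ)) := by
  rcases le_or_gt k a with hk | hk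
  · rw [Nat.cast_prod, triangle, ← Finset.prod_pow_eq_pow_sum, ← Finset.prod_mul_distrib]
    refine Finset.prod_congr rfl fun t ht => ?_
    have ht' : t + (a - t) = a := by have := mem_range.1 ht; omega
    conv_rhs => rw [← ht', qInt_add]
    push_cast
    ring
  · rw [Finset.prod_eq_zero (mem_range.2 hk) (by rw [Nat.sub_self, qInt, Finset.range_zero,
      Finset.sum_empty]), Finset.prod_eq_zero (mem_range.2 hk) (sub_self _), Nat.cast_zero, zero_mul]

theorem sum_triangle (m : ℕ) : 6 * (∑ j ∈ range m, triangle j) = m * (m - 1) * (m - 2) := by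
  induction m with
  | zero => rfl
  | succ m ih =>
    rw [Finset.sum_range_succ, mul_add, ih]
    have h := two_triangle m
    rcases m with _ | _ | m
    · rfl
    · rfl
    · simp only [Nat.add_sub_cancel, Nat.reduceSubDiff]
      nlinarith

theorem unipotent_one_mul {ν : Fin n → ℕ} (hs : ∑ i, ν i = n) :
    Cfsg.unipotentCharacterGL n F ν 1 * ∏ i : Fin n, (qFact (Fintype.card F) (ν i + i.val) : ℂ) =
      (qFact (Fintype.card F) n : ℂ) *
        (Matrix.of fun i j : Fin n =>
          ((∏ t ∈ range j.val, qInt (Fintype.card F) (ν i + i.val - t) : ℕ) : ℂ)).det := by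
  classical
  have hq : 0 < Fintype.card F := Fintype.card_pos
  rw [← Matrix.det_transpose, Matrix.det_apply', Cfsg.unipotentCharacterGL, Finset.sum_mul,
    Finset.mul_sum]
  refine Finset.sum_congr rfl fun κ _ => ?_
  simp only [Matrix.transpose_apply, Matrix.of_apply]
  split_ifs with h
  · have hsum : ∑ i, (ν i + i.val - (κ i).val) = n := (sum_shift_sub ν κ h).trans hs
    have hidx := index_parabolic (F := F) hsum
    have hfix : Cfsg.fixedPointCharacter
        (Cfsg.parabolicGL n F fun i => ν i + i.val - (κ i).val) 1 =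
        (Nat.card (GL (Fin n) F ⧸ Cfsg.parabolicGL n F fun i => ν i + i.val - (κ i).val) : ℂ) := by
      simp only [Cfsg.fixedPointCharacter, MulAction.fixedBy_one_eq_univ]
      rw [Nat.card_univ]
    rw [hfix, ← hidx, Nat.cast_mul, Nat.cast_prod]
    simp only [← qFact_mul_falling (Fintype.card F) _ _ (h _), Nat.cast_mul, Finset.prod_mul_distrib]
    ring
  · obtain ⟨i, hi⟩ := not_forall.1 h
    have hi' := Nat.lt_of_not_le hi
    rw [zero_mul, Finset.prod_eq_zero (i := i) (mem_univ i), mul_zero, mul_zero]
    rw [Nat.cast_eq_zero]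
    exact Finset.prod_eq_zero (mem_range.2 hi')
      (by rw [Nat.sub_self, qInt, Finset.range_zero, Finset.sum_empty])

theorem det_falling (q : ℕ) (l : Fin n → ℕ) :
    (Matrix.of fun i j : Fin n => ((∏ t ∈ range j.val, qInt q (l i - t) : ℕ) : ℂ)).det *
        (q : ℂ) ^ (n * (n - 1) * (n - 2) / 6) =
      ∏ i : Fin n, ∏ j ∈ Ioi i, ((qInt q (l j) : ℂ) - (qInt q (l i) : ℂ)) := by
  rw [← sum_triangle n, Nat.mul_div_cancel_left _ (by norm_num), Finset.sum_range,
    ← Finset.prod_pow_eq_pow_sum, ← Matrix.det_vandermonde, mul_comm, ← Matrix.det_mul_row,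
    Matrix.det_eval_matrixOfPolynomials_eq_det_vandermonde (fun i => (qInt q (l i) : ℂ))
      (fun j => ∏ t ∈ range j.val, (Polynomial.X - Polynomial.C (qInt q t : ℂ)))
      (fun j => by
        rw [Polynomial.natDegree_prod _ _ fun t _ => Polynomial.X_sub_C_ne_zero _,
          Finset.sum_congr rfl fun t _ => Polynomial.natDegree_X_sub_C _, Finset.sum_const,
          Finset.card_range, smul_eq_mul, mul_one])
      (fun j => Polynomial.monic_prod_X_sub_C _ _)]
  congr 1
  ext i j
  simp only [Matrix.of_apply, Polynomial.eval_prod, Polynomial.eval_sub, Polynomial.eval_X,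
    Polynomial.eval_C]
  rw [mul_comm, prod_qInt_sub_mul]

end CfsgLib.GLn
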