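import Mathlib.RingTheory.MvPowerSeries.NoZeroDivisors
import Mathlib.RingTheory.MvPowerSeries.Basic
import Mathlib.LinearAlgebra.Vandermonde
import Mathlib.Algebra.Order.Rearrangement
import Mathlib.Data.Fin.Tuple.Sort
import Mathlib.SetTheory.Cardinal.Finite
import Mathlib.Algebra.Order.BigOperators.Ring.Finset

/-!
# Alternating sums of numbers of matrices with given margins

The Cauchy determinant identity, read on coefficients: the signed sums over two permutations of the numbers
of natural matrices with margins `l − κ`, `m − τ` is the Kronecker symbol of the strictly increasing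
tuples `l`, `m`.
-/

set_option autoImplicit false

namespace CfsgLib.GLn

open Finset MvPowerSeries Matrix

variable {n : ℕ}

/-- The number of natural matrices with row sums `c` and column sums `d`. -/
noncomputable def margCard (c d : Fin n → ℕ) : ℕ :=
  Nat.card {M : Fin n → Fin n → ℕ // (∀ i, ∑ j, M i j = c i) ∧ (∀ j, ∑ i, M i j = d j)}

/-- Permuting the column sums does not change the count. -/
theorem margCard_comp_perm (c d : Fin n → ℕ) (σ : Equiv.Perm (Fin n)) :
    margCard c (d ∘ σ) = margCard c d := by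
  refine Nat.card_congr
    { toFun := fun M => ⟨fun i j => M.1 i (σ.symm j), ?_, ?_⟩
      invFun := fun M => ⟨fun i j => M.1 i (σ j), ?_, ?_⟩
      left_inv := fun M => Subtype.ext (by funext i j; simp)
      right_inv := fun M => Subtype.ext (by funext i j; simp) }
  · exact fun i => (Equiv.sum_comp σ.symm (M.1 i)).trans (M.2.1 i)
  · exact fun j => (M.2.2 (σ.symm j)).trans (by simp)
  · exact fun i => (Equiv.sum_comp σ (M.1 i)).trans (M.2.1 i)
  · exact fun j => M.2.2 (σ j)

theorem margCard_zero : margCard (0 : Fin n → ℕ) 0 = 1 := by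
  rw [margCard, Nat.card_eq_one_iff_unique]
  refine ⟨⟨fun M M' => Subtype.ext ?_⟩, ⟨⟨0, by simp⟩⟩⟩
  funext i j
  have h := (Finset.sum_eq_zero_iff.1 (M.2.1 i)) j (mem_univ _)
  have h' := (Finset.sum_eq_zero_iff.1 (M'.2.1 i)) j (mem_univ _)
  omega

/-- The geometric series in the monomial of exponent `a`. -/
noncomputable def geomSeries {V : Type*} (a : V →₀ ℕ) : MvPowerSeries V ℤ :=
  fun e => by classical exact if ∃ k : ℕ, e = k • a then 1 else 0

theorem coeff_geomSeries {V : Type*} (a e : V →₀ ℕ) [Decidable (∃ k : ℕ, e = k • a)] :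
    coeff e (geomSeries a) = if ∃ k : ℕ, e = k • a then 1 else 0 := by
  rw [coeff_apply, geomSeries]
  congr

theorem one_sub_mul_geomSeries {V : Type*} {a : V →₀ ℕ} (ha : a ≠ 0) :
    (1 - monomial a (1 : ℤ)) * geomSeries a = 1 := by
  classical
  ext e
  rw [sub_mul, one_mul, map_sub, coeff_monomial_mul, coeff_one, coeff_geomSeries]
  by_cases hae : a ≤ e
  · have he : e ≠ 0 := by
      rintro rfl
      exact ha (le_antisymm hae zero_le)
    rw [if_pos hae, if_neg he, one_mul, coeff_geomSeries, sub_eq_zero]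
    by_cases hk : ∃ k : ℕ, e = k • a
    · rw [if_pos hk]
      obtain ⟨k, hk⟩ := hk
      obtain ⟨k, rfl⟩ : ∃ k', k = k' + 1 := by
        rcases k with _ | k
        · exact absurd (by rw [hk, zero_nsmul]) he
        · exact ⟨k, rfl⟩
      rw [if_pos ⟨k, by rw [hk, succ_nsmul, add_tsub_cancel_right]⟩]
    · rw [if_neg hk, if_neg]
      rintro ⟨k, h⟩
      exact hk ⟨k + 1, by rw [succ_nsmul, ← h, tsub_add_cancel_of_le hae]⟩
  · rw [if_neg hae, sub_zero]
    refine if_congr ⟨?_, ?_⟩ rfl rfl
    · rintro ⟨k, rfl⟩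
      rcases k with _ | k
      · exact zero_nsmul a
      · exact absurd (by rw [succ_nsmul]; exact le_add_left le_rfl) hae
    · exact fun h => ⟨0, by rw [h, zero_nsmul]⟩

theorem coeff_prod_geomSeries {ι V : Type*} [Fintype ι] (a : ι → V →₀ ℕ) (ha : ∀ i, a i ≠ 0)
    (e : V →₀ ℕ) :
    coeff e (∏ i, geomSeries (a i)) = (Nat.card {k : ι → ℕ // ∑ i, k i • a i = e} : ℤ) := by
  classical
  rw [coeff_prod]
  simp only [coeff_geomSeries, Finset.prod_boole, Finset.mem_univ, forall_const]
  rw [Finset.sum_boole]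
  congr 1
  rw [← Nat.card_eq_finsetCard]
  have hmem : ∀ k : {k : ι → ℕ // ∑ i, k i • a i = e},
      Finsupp.equivFunOnFinite.symm (fun i => k.1 i • a i) ∈
        (finsuppAntidiag univ e).filter fun x => ∀ i, ∃ m : ℕ, x i = m • a i := fun k => by
    simp only [Finset.mem_filter, Finset.mem_finsuppAntidiag]
    exact ⟨⟨by simpa using k.2, subset_univ _⟩, fun i => ⟨k.1 i, by simp⟩⟩
  refine (Nat.card_congr (Equiv.ofBijective
    (fun k : {k : ι → ℕ // ∑ i, k i • a i = e} =>
      (⟨_, hmem k⟩ : {x // x ∈ (finsuppAntidiag univ e).filter fun x => ∀ i, ∃ m : ℕ, x i = m • a i}))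
    ⟨?_, ?_⟩)).symm
  · rintro ⟨k, hk⟩ ⟨k', hk'⟩ h
    refine Subtype.ext (funext fun i => ?_)
    have h1 := DFunLike.congr_fun (congrArg Subtype.val h) i
    simp only [Finsupp.coe_equivFunOnFinite_symm] at h1
    obtain ⟨v, hv⟩ := DFunLike.ne_iff.1 (ha i)
    have h2 := DFunLike.congr_fun h1 v
    simp only [Finsupp.smul_apply, smul_eq_mul] at h2
    exact mul_right_cancel₀ hv h2
  · rintro ⟨l, hl⟩
    have hl' := hl
    simp only [Finset.mem_filter, Finset.mem_finsuppAntidiag] at hl'
    choose k hk using hl'.2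
    refine ⟨⟨k, ?_⟩, Subtype.ext (Finsupp.ext fun i => ?_)⟩
    · rw [← hl'.1.1]
      exact Finset.sum_congr rfl fun i _ => (hk i).symm
    · simp [hk i]

theorem coeff_intCast_mul {V : Type*} (e : V →₀ ℕ) (z : ℤ) (φ : MvPowerSeries V ℤ) :
    coeff e ((z : MvPowerSeries V ℤ) * φ) = z * coeff e φ := by
  rw [← zsmul_eq_mul, map_zsmul, smul_eq_mul]

section Cauchy

variable {R : Type*} [CommRing R]

/-- The matrix of elementary symmetric functions of the negated variables, one omitted. -/
def elemMatrix (y : Fin n → R) : Matrix (Fin n) (Fin n) R :=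
  Matrix.of fun k j => ∑ T ∈ powersetCard k.val (univ.erase j), ∏ l ∈ T, (-y l)

theorem prod_erase_eq_sum (y : Fin n → R) (u z : R) (j : Fin n) :
    ∏ l ∈ univ.erase j, (u * (-y l) + z) =
      ∑ k : Fin n, u ^ k.val * z ^ (n - 1 - k.val) * elemMatrix y k j := by
  have hn : 0 < n := j.pos
  have hcard : (univ.erase j).card = n - 1 := by simp
  rw [Finset.prod_add, Finset.sum_powerset, hcard, Nat.sub_add_cancel hn, Finset.sum_range]
  refine Finset.sum_congr rfl fun k _ => ?_
  rw [elemMatrix, Matrix.of_apply, Finset.mul_sum]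
  refine Finset.sum_congr rfl fun T hT => ?_
  rw [mem_powersetCard] at hT
  rw [Finset.prod_mul_distrib, Finset.prod_const, Finset.prod_const, hT.2,
    Finset.card_sdiff_of_subset hT.1, hcard, hT.2]
  ring

theorem exists_det_elemMatrix [IsDomain R] (y : Fin n → R) (hy : Function.Injective y) :
    ∃ s : ℤ, (elemMatrix y).det = (s : R) * (vandermonde y).det := by
  let W : Matrix (Fin n) (Fin n) R := Matrix.of fun i k => y i ^ (n - 1 - k.val)
  have hW : W.det = ((Equiv.Perm.sign (Fin.revPerm : Equiv.Perm (Fin n)) : ℤ) : R) *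
      (vandermonde y).det := by
    rw [← det_permute' Fin.revPerm (vandermonde y)]
    congr 1
    ext i k
    simp [W, Fin.val_rev, Nat.sub_sub, Nat.add_comm]
  have hWC : W * elemMatrix y = Matrix.diagonal fun i => ∏ l ∈ univ.erase i, (y i - y l) := by
    ext i j
    rw [Matrix.mul_apply]
    have h := prod_erase_eq_sum y 1 (y i) j
    simp only [one_mul, one_pow] at h
    rw [show ∑ k, W i k * elemMatrix y k j = ∏ l ∈ univ.erase j, (-y l + y i) from h.symm]
    by_cases hij : i = j
    · subst hij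
      rw [Matrix.diagonal_apply_eq]
      exact Finset.prod_congr rfl fun l _ => by ring
    · rw [Matrix.diagonal_apply_ne _ hij]
      exact Finset.prod_eq_zero (mem_erase.2 ⟨hij, mem_univ i⟩) (by ring)
  have hD : (∏ i, ∏ l ∈ univ.erase i, (y i - y l)) =
      ((∏ i : Fin n, (-1 : ℤ) ^ (Ioi i).card : ℤ) : R) * (vandermonde y).det * (vandermonde y).det := by
    have hsplit : ∀ i : Fin n, ∏ l ∈ univ.erase i, (y i - y l) =
        (∏ l ∈ Iio i, (y i - y l)) * ∏ l ∈ Ioi i, (y i - y l) := fun i => by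
      rw [← Finset.prod_union (by
        rw [Finset.disjoint_left]
        intro a ha hb
        simp only [mem_Iio, mem_Ioi] at ha hb
        exact lt_asymm ha hb)]
      refine Finset.prod_congr ?_ fun _ _ => rfl
      ext a
      simp only [mem_erase, mem_univ, and_true, mem_union, mem_Iio, mem_Ioi]
      exact ne_iff_lt_or_gt
    rw [Finset.prod_congr rfl fun i _ => hsplit i, Finset.prod_mul_distrib,
      Finset.prod_comm' (t' := univ) (s' := fun l => Ioi l) (h := by simp), ← det_vandermonde,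
      mul_comm]
    congr 1
    rw [det_vandermonde, Int.cast_prod, ← Finset.prod_mul_distrib]
    refine Finset.prod_congr rfl fun i _ => ?_
    rw [Int.cast_pow, Int.cast_neg, Int.cast_one, ← Finset.prod_const, ← Finset.prod_mul_distrib]
    exact Finset.prod_congr rfl fun l _ => by ring
  have h := congrArg Matrix.det hWC
  rw [Matrix.det_mul, Matrix.det_diagonal, hD, hW] at h
  refine ⟨(Equiv.Perm.sign (Fin.revPerm : Equiv.Perm (Fin n)) : ℤ) *
    ∏ i : Fin n, (-1 : ℤ) ^ (Ioi i).card, ?_⟩
  have hne : (vandermonde y).det ≠ 0 := det_vandermonde_ne_zero_iff.2 hy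
  refine mul_left_cancel₀ hne ?_
  have hsq : ((Equiv.Perm.sign (Fin.revPerm : Equiv.Perm (Fin n)) : ℤ) : R) *
      ((Equiv.Perm.sign (Fin.revPerm : Equiv.Perm (Fin n)) : ℤ) : R) = 1 := by
    rw [← Int.cast_mul, ← Units.val_mul, Int.units_mul_self, Units.val_one, Int.cast_one]
  calc (vandermonde y).det * (elemMatrix y).det
      = ((Equiv.Perm.sign (Fin.revPerm : Equiv.Perm (Fin n)) : ℤ) : R) *
          (((Equiv.Perm.sign (Fin.revPerm : Equiv.Perm (Fin n)) : ℤ) : R) *
            (vandermonde y).det * (elemMatrix y).det) := by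
        rw [← mul_assoc, ← mul_assoc, hsq, one_mul]
    _ = _ := by
        rw [h]
        push_cast
        ring

theorem det_prod_erase (x y : Fin n → R) :
    (Matrix.of fun i j => ∏ l ∈ univ.erase j, (1 - x i * y l)).det =
      (vandermonde x).det * (elemMatrix y).det := by
  rw [← Matrix.det_mul]
  congr 1
  ext i j
  rw [Matrix.mul_apply, Matrix.of_apply]
  have h := prod_erase_eq_sum y (x i) 1 j
  simp only [one_pow, mul_one] at h
  simp only [vandermonde_apply]
  rw [← h]
  exact Finset.prod_congr rfl fun l _ => by ring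

end Cauchy

/-- The exponent vector of a pair of tuples. -/
noncomputable def pairExp (l m : Fin n → ℕ) : (Fin n ⊕ Fin n) →₀ ℕ :=
  Finsupp.equivFunOnFinite.symm (Sum.elim l m)

theorem pairExp_inl (l m : Fin n → ℕ) (i : Fin n) : pairExp l m (Sum.inl i) = l i := by
  simp [pairExp]

theorem pairExp_inr (l m : Fin n → ℕ) (i : Fin n) : pairExp l m (Sum.inr i) = m i := by
  simp [pairExp]

/-- The exponent vector of `x i * y j`. -/
noncomputable def cellExp (p : Fin n × Fin n) : (Fin n ⊕ Fin n) →₀ ℕ :=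
  Finsupp.single (Sum.inl p.1) 1 + Finsupp.single (Sum.inr p.2) 1

theorem cellExp_ne_zero (p : Fin n × Fin n) : cellExp p ≠ 0 := fun h => by
  have := DFunLike.congr_fun h (Sum.inl p.1)
  simp [cellExp] at this

theorem coeff_prod_cells (l m : Fin n → ℕ) :
    coeff (pairExp l m) (∏ p : Fin n × Fin n, geomSeries (cellExp p)) = (margCard l m : ℤ) := by
  classical
  rw [coeff_prod_geomSeries _ cellExp_ne_zero, margCard]
  congr 1
  refine Nat.card_congr ((Equiv.curry (Fin n) (Fin n) ℕ).subtypeEquiv fun k => ?_)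
  have h1 : ∀ i, (∑ p : Fin n × Fin n, k p • cellExp p) (Sum.inl i) = ∑ j, k (i, j) := by
    intro i
    rw [Finsupp.finsetSum_apply, Fintype.sum_prod_type, Finset.sum_eq_single i]
    · simp [cellExp]
    · exact fun a _ ha => Finset.sum_eq_zero fun j _ => by simp [cellExp, Ne.symm ha]
    · simp
  have h2 : ∀ j, (∑ p : Fin n × Fin n, k p • cellExp p) (Sum.inr j) = ∑ i, k (i, j) := by
    intro j
    rw [Finsupp.finsetSum_apply, Fintype.sum_prod_type_right, Finset.sum_eq_single j]
    · simp [cellExp]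
    · exact fun a _ ha => Finset.sum_eq_zero fun i _ => by simp [cellExp, Ne.symm ha]
    · simp
  constructor
  · intro h
    refine ⟨fun i => ?_, fun j => ?_⟩
    · exact (h1 i).symm.trans (by rw [h, pairExp_inl])
    · exact (h2 j).symm.trans (by rw [h, pairExp_inr])
  · rintro ⟨hr, hc⟩
    ext (i | j)
    · rw [h1, pairExp_inl]; exact hr i
    · rw [h2, pairExp_inr]; exact hc j

theorem coeff_prod_perm (l m : Fin n → ℕ) (σ : Equiv.Perm (Fin n))
    [Decidable (∀ i, l (σ i) = m i)] :
    coeff (pairExp l m) (∏ i, geomSeries (cellExp (σ i, i))) =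
      if ∀ i, l (σ i) = m i then 1 else 0 := by
  classical
  rw [coeff_prod_geomSeries _ fun i => cellExp_ne_zero _]
  have h1 : ∀ (k : Fin n → ℕ) j, (∑ i, k i • cellExp (σ i, i)) (Sum.inr j) = k j := by
    intro k j
    rw [Finsupp.finsetSum_apply, Finset.sum_eq_single j]
    · simp [cellExp]
    · exact fun a _ ha => by simp [cellExp, Ne.symm ha]
    · simp
  have h2 : ∀ (k : Fin n → ℕ) j, (∑ i, k i • cellExp (σ i, i)) (Sum.inl (σ j)) = k j := by
    intro k j
    rw [Finsupp.finsetSum_apply, Finset.sum_eq_single j]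
    · simp [cellExp]
    · exact fun a _ ha => by simp [cellExp, Ne.symm ha]
    · simp
  split_ifs with h
  · rw [Nat.cast_eq_one, Nat.card_eq_one_iff_unique]
    refine ⟨⟨fun k k' => Subtype.ext (funext fun j => ?_)⟩, ⟨⟨m, ?_⟩⟩⟩
    · rw [← h1 k.1 j, ← h1 k'.1 j, k.2, k'.2]
    · ext (j | j)
      · obtain ⟨j, rfl⟩ := σ.surjective j
        rw [h2, pairExp_inl, h j]
      · rw [h1, pairExp_inr]
  · rw [Nat.cast_eq_zero, Nat.card_eq_zero]
    refine Or.inl ⟨fun k => h fun i => ?_⟩
    rw [← pairExp_inl l m, ← pairExp_inr l m i, ← k.2, h1, h2]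

theorem det_vandermonde_monomials (v : Fin n → Fin n ⊕ Fin n) :
    (vandermonde fun i => (X (v i) : MvPowerSeries (Fin n ⊕ Fin n) ℤ)).det =
      ∑ κ : Equiv.Perm (Fin n), ((Equiv.Perm.sign κ : ℤ) : MvPowerSeries (Fin n ⊕ Fin n) ℤ) *
        monomial (∑ i, Finsupp.single (v i) (κ i).val) 1 := by
  rw [det_apply']
  refine Fintype.sum_equiv (Equiv.inv _) _ _ fun σ => ?_
  rw [Equiv.inv_apply, map_inv, Int.units_inv_eq_self]
  congr 1
  rw [← Equiv.prod_comp (σ⁻¹ : Equiv.Perm (Fin n))]
  simp only [vandermonde_apply, Equiv.Perm.coe_inv, Equiv.apply_symm_apply, X_pow_eq]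
  generalize (univ : Finset (Fin n)) = s
  classical
  induction s using Finset.induction_on with
  | empty => simp
  | insert a s ha ih => rw [prod_insert ha, sum_insert ha, ih, monomial_mul_monomial, one_mul]

theorem cauchy_coeff (n : ℕ) : ∀ l m : Fin n → ℕ,
    ∑ κ : Equiv.Perm (Fin n), ∑ τ : Equiv.Perm (Fin n),
      (if (∀ i, (κ i).val ≤ l i) ∧ (∀ i, (τ i).val ≤ m i) then
        (Equiv.Perm.sign κ : ℤ) * (Equiv.Perm.sign τ : ℤ) *
          (margCard (fun i => l i - (κ i).val) (fun i => m i - (τ i).val) : ℤ)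
      else 0) =
    ∑ σ : Equiv.Perm (Fin n), (if ∀ i, l (σ i) = m i then (Equiv.Perm.sign σ : ℤ) else 0) := by
  classical
  let x : Fin n → MvPowerSeries (Fin n ⊕ Fin n) ℤ := fun i => X (Sum.inl i)
  let y : Fin n → MvPowerSeries (Fin n ⊕ Fin n) ℤ := fun i => X (Sum.inr i)
  have hy : Function.Injective y := fun i j h => Sum.inr_injective (X_inj.1 h)
  have hxy : ∀ i j, x i * y j = monomial (cellExp (i, j)) 1 := fun i j => by
    simp only [x, y, X, monomial_mul_monomial, one_mul, cellExp]
  let F : MvPowerSeries (Fin n ⊕ Fin n) ℤ := ∏ p : Fin n × Fin n, geomSeries (cellExp p)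
  let A : Matrix (Fin n) (Fin n) (MvPowerSeries (Fin n ⊕ Fin n) ℤ) :=
    Matrix.of fun i j => geomSeries (cellExp (i, j))
  have : IsDomain (MvPowerSeries (Fin n ⊕ Fin n) ℤ) := NoZeroDivisors.to_isDomain _
  obtain ⟨s, hs⟩ := exists_det_elemMatrix y hy
  have hA : A.det = (s : MvPowerSeries (Fin n ⊕ Fin n) ℤ) * (vandermonde x).det *
      (vandermonde y).det * F := by
    have hP : (∏ i, ∏ l, (1 - x i * y l)) * F = 1 := by
      simp only [F, Fintype.prod_prod_type, ← Finset.prod_mul_distrib, hxy]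
      exact Finset.prod_eq_one fun i _ => Finset.prod_eq_one fun j _ =>
        one_sub_mul_geomSeries (cellExp_ne_zero _)
    have hPA : (∏ i, ∏ l, (1 - x i * y l)) * A.det =
        (Matrix.of fun i j => ∏ l ∈ univ.erase j, (1 - x i * y l)).det := by
      rw [← det_mul_column]
      congr 1
      ext i j
      simp only [Matrix.of_apply, A]
      rw [← Finset.mul_prod_erase univ (fun l => 1 - x i * y l) (mem_univ j), mul_comm _ (∏ l ∈ _, _),
        mul_assoc, hxy, one_sub_mul_geomSeries (cellExp_ne_zero _), mul_one]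
    rw [det_prod_erase, hs] at hPA
    calc A.det = ((∏ i, ∏ l, (1 - x i * y l)) * F) * A.det := by rw [hP, one_mul]
      _ = _ := by rw [mul_comm _ F, mul_assoc, hPA]; ring
  have hcoef : ∀ l m : Fin n → ℕ,
      s * ∑ κ : Equiv.Perm (Fin n), ∑ τ : Equiv.Perm (Fin n),
        (if (∀ i, (κ i).val ≤ l i) ∧ (∀ i, (τ i).val ≤ m i) then
          (Equiv.Perm.sign κ : ℤ) * (Equiv.Perm.sign τ : ℤ) *
            (margCard (fun i => l i - (κ i).val) (fun i => m i - (τ i).val) : ℤ)
        else 0) =
      ∑ σ : Equiv.Perm (Fin n), (if ∀ i, l (σ i) = m i then (Equiv.Perm.sign σ : ℤ) else 0) := by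
    intro l m
    have h := congrArg (coeff (pairExp l m)) hA
    rw [det_apply', map_sum] at h
    simp only [A, Matrix.of_apply, coeff_intCast_mul] at h
    simp only [coeff_prod_perm, mul_ite, mul_one, mul_zero] at h
    simp only [x, y, det_vandermonde_monomials] at h
    rw [h, mul_assoc (s : MvPowerSeries (Fin n ⊕ Fin n) ℤ), Finset.sum_mul_sum, Finset.mul_sum,
      Finset.mul_sum, Finset.sum_mul, map_sum]
    refine Finset.sum_congr rfl fun κ _ => ?_
    rw [Finset.mul_sum, Finset.mul_sum, Finset.sum_mul, map_sum]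
    refine Finset.sum_congr rfl fun τ _ => ?_
    have hκτ : (∑ i, Finsupp.single (Sum.inl i) (κ i).val) +
        (∑ i, Finsupp.single (Sum.inr i) (τ i).val) =
        pairExp (fun i => (κ i).val) (fun i => (τ i).val) := by
      ext (i | i) <;>
        simp [Finsupp.single_apply, pairExp]
    have hmul : ∀ (a b : ℤ) (u w : MvPowerSeries (Fin n ⊕ Fin n) ℤ),
        (s : MvPowerSeries (Fin n ⊕ Fin n) ℤ) * ((a : MvPowerSeries (Fin n ⊕ Fin n) ℤ) * u *
          ((b : MvPowerSeries (Fin n ⊕ Fin n) ℤ) * w)) * F =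
        ((s * (a * b) : ℤ) : MvPowerSeries (Fin n ⊕ Fin n) ℤ) * (u * w * F) := fun a b u w => by
      push_cast; ring
    rw [hmul, monomial_mul_monomial, one_mul, hκτ, coeff_intCast_mul, coeff_monomial_mul]
    have hle : pairExp (fun i => (κ i).val) (fun i => (τ i).val) ≤ pairExp l m ↔
        (∀ i, (κ i).val ≤ l i) ∧ (∀ i, (τ i).val ≤ m i) := by
      refine ⟨fun h => ⟨fun i => ?_, fun i => ?_⟩, fun h => ?_⟩
      · simpa [pairExp] using h (Sum.inl i)
      · simpa [pairExp] using h (Sum.inr i)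
      · rintro (i | i) <;> simp [pairExp, h.1, h.2]
    have hsub : pairExp l m - pairExp (fun i => (κ i).val) (fun i => (τ i).val) =
        pairExp (fun i => l i - (κ i).val) (fun i => m i - (τ i).val) := by
      ext (i | i) <;> simp [pairExp]
    simp only [hle, hsub, F, coeff_prod_cells, one_mul, mul_ite, mul_zero]
    refine if_congr Iff.rfl ?_ rfl
    ring
  have hs1 : s = 1 := by
    have h := hcoef (fun i => i.val) (fun i => i.val)
    have h1 : ∀ κ : Equiv.Perm (Fin n), (∀ i, (κ i).val ≤ i.val) → κ = 1 := fun κ hκ => by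
      refine Equiv.ext fun i => Fin.ext ?_
      exact (Finset.sum_eq_sum_iff_of_le (fun i _ => hκ i)).1
        (Equiv.sum_comp κ (fun i : Fin n => i.val)) i (mem_univ i)
    rw [Finset.sum_eq_single 1, Finset.sum_eq_single 1, Finset.sum_eq_single 1] at h
    · simp only [Equiv.Perm.one_apply, le_refl, implies_true, and_self, if_true, tsub_self,
        Equiv.Perm.sign_one, Units.val_one, one_mul] at h
      have : margCard (fun _ : Fin n => 0) (fun _ => 0) = 1 := margCard_zero
      rw [this, Nat.cast_one, mul_one] at h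
      exact h
    · exact fun σ _ hne => if_neg fun hh => hne (h1 σ fun i => (hh i).le)
    · simp
    · exact fun σ _ hne => if_neg fun hh => hne (h1 σ hh.2)
    · simp
    · exact fun σ _ hne => Finset.sum_eq_zero fun τ _ => if_neg fun hh => hne (h1 σ hh.1)
    · simp
  intro l m
  have h := hcoef l m
  rwa [hs1, one_mul] at h

/-- The signed sum attached to a partition. -/
noncomputable def altMarg (ν c : Fin n → ℕ) : ℤ :=
  ∑ κ : Equiv.Perm (Fin n),
    if ∀ i, (κ i).val ≤ ν i + i.val then
      (Equiv.Perm.sign κ : ℤ) * (margCard (fun i => ν i + i.val - (κ i).val) c : ℤ)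
    else 0

theorem strictMono_add_val {ν : Fin n → ℕ} (h : Monotone ν) :
    StrictMono fun i : Fin n => ν i + i.val := fun i j hij => by
  have := h hij.le
  have : i.val < j.val := hij
  change ν i + i.val < ν j + j.val
  omega

/-- Orthogonality of the alternating sums. -/
theorem sum_altMarg (ν μ : Fin n → ℕ) (hν : Monotone ν) (hμ : Monotone μ) :
    (∑ τ : Equiv.Perm (Fin n),
      if ∀ i, (τ i).val ≤ μ i + i.val then
        (Equiv.Perm.sign τ : ℤ) * altMarg ν (fun i => μ i + i.val - (τ i).val)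
      else 0) = if ν = μ then 1 else 0 := by
  classical
  have h := cauchy_coeff n (fun i => ν i + i.val) (fun i => μ i + i.val)
  rw [Finset.sum_comm] at h
  refine Eq.trans (Eq.trans ?_ h) ?_
  · refine Finset.sum_congr rfl fun τ _ => ?_
    split_ifs with hτ
    · rw [altMarg, Finset.mul_sum]
      refine Finset.sum_congr rfl fun κ _ => ?_
      simp only [hτ, implies_true, and_true]
      split_ifs <;> ring
    · exact (Finset.sum_eq_zero fun κ _ => if_neg fun hh => hτ hh.2).symm
  · have hu : ∀ σ : Equiv.Perm (Fin n), (∀ i, ν (σ i) + (σ i).val = μ i + i.val) → σ = 1 := by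
      intro σ hσ
      have hmono : StrictMono (σ : Fin n → Fin n) := fun i j hij => by
        by_contra hc
        have h1 : ν (σ j) + (σ j).val ≤ ν (σ i) + (σ i).val :=
          (strictMono_add_val hν).monotone (not_lt.1 hc)
        have h2 : μ i + i.val < μ j + j.val := strictMono_add_val hμ hij
        rw [hσ i, hσ j] at h1
        omega
      refine Equiv.ext fun i => ?_
      have := congrFun ((StrictMono.range_inj (f := (σ : Fin n → Fin n)) (g := id) hmono strictMono_id).1
        (by simp [σ.range_eq_univ])) i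
      simpa using this
    rw [Finset.sum_eq_single 1]
    · simp only [Equiv.Perm.one_apply, Equiv.Perm.sign_one, Units.val_one]
      refine if_congr ⟨fun h => funext fun i => ?_, fun h i => by rw [h]⟩ rfl rfl
      have := h i
      omega
    · exact fun σ _ hne => if_neg fun hh => hne (hu σ hh)
    · simp

theorem sum_shift_sub (μ : Fin n → ℕ) (τ : Equiv.Perm (Fin n))
    (hτ : ∀ i, (τ i).val ≤ μ i + i.val) :
    ∑ i, (μ i + i.val - (τ i).val) = ∑ i, μ i := by
  have h1 : ∑ i, (μ i + i.val - (τ i).val) + ∑ i, (τ i).val = ∑ i, μ i + ∑ i : Fin n, i.val := by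
    rw [← Finset.sum_add_distrib, ← Finset.sum_add_distrib]
    exact Finset.sum_congr rfl fun i _ => Nat.sub_add_cancel (hτ i)
  rw [Equiv.sum_comp τ (fun i : Fin n => i.val)] at h1
  omega

theorem sq_sum_lt_shift {μ : Fin n → ℕ} (hμ : Monotone μ) {τ : Equiv.Perm (Fin n)} (hne : τ ≠ 1)
    (hτ : ∀ i, (τ i).val ≤ μ i + i.val) :
    ∑ i, μ i ^ 2 < ∑ i, (μ i + i.val - (τ i).val) ^ 2 := by
  have hl := strictMono_add_val hμ
  have hlt : ∑ i, (μ i + i.val) * (τ i).val < ∑ i : Fin n, (μ i + i.val) * i.val := by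
    refine (Monovary.sum_mul_comp_perm_lt_sum_mul_iff (σ := τ) (f := fun i : Fin n => μ i + i.val)
      (g := fun i : Fin n => i.val) ?_).2 ?_
    · exact fun i j hij => hl.monotone hij.le
    · intro hmv
      apply hne
      have hmono : StrictMono (τ : Fin n → Fin n) := fun i j hij => by
        rcases lt_trichotomy (τ i) (τ j) with h | h | h
        · exact h
        · exact absurd (τ.injective h) hij.ne
        · exact absurd (hl hij) (not_lt.2 (hmv h))
      refine Equiv.ext fun i => ?_
      have := congrFun ((StrictMono.range_inj (f := (τ : Fin n → Fin n)) (g := id) hmono strictMono_id).1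
        (by simp [τ.range_eq_univ])) i
      simpa using this
  have h1 : ∀ i : Fin n, (μ i + i.val - (τ i).val) ^ 2 + 2 * ((μ i + i.val) * (τ i).val) =
      (μ i + i.val) ^ 2 + (τ i).val ^ 2 := fun i => by
    obtain ⟨d, hd⟩ := Nat.exists_eq_add_of_le (hτ i)
    rw [hd, Nat.add_sub_cancel_left]
    ring
  have h2 : ∀ i : Fin n, μ i ^ 2 + 2 * ((μ i + i.val) * i.val) = (μ i + i.val) ^ 2 + i.val ^ 2 :=
    fun i => by ring
  have e1 := Finset.sum_congr rfl fun i (_ : i ∈ (univ : Finset (Fin n))) => h1 i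
  have e2 := Finset.sum_congr rfl fun i (_ : i ∈ (univ : Finset (Fin n))) => h2 i
  simp only [Finset.sum_add_distrib, ← Finset.mul_sum] at e1 e2
  rw [Equiv.sum_comp τ (fun i : Fin n => i.val ^ 2)] at e1
  omega

theorem altMarg_eq_zero {ν : Fin n → ℕ} (hν : Monotone ν) :
    ∀ c : Fin n → ℕ, ∑ i, c i = ∑ i, ν i → ∑ i, ν i ^ 2 < ∑ i, c i ^ 2 → altMarg ν c = 0 := by
  suffices h : ∀ (k : ℕ) (c : Fin n → ℕ), ∑ i, c i = ∑ i, ν i →
      (∑ i, ν i) ^ 2 - ∑ i, c i ^ 2 ≤ k → ∑ i, ν i ^ 2 < ∑ i, c i ^ 2 → altMarg ν c = 0 from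
    fun c h1 h2 => h _ c h1 le_rfl h2
  intro k
  induction k using Nat.strong_induction_on with
  | _ k ih =>
    intro c hsum hk hlt
    let σ := Tuple.sort c
    have hm : Monotone (c ∘ σ) := Tuple.monotone_sort c
    have hsum' : ∑ i, (c ∘ σ) i = ∑ i, ν i := (Equiv.sum_comp σ c).trans hsum
    have hsq : ∑ i, (c ∘ σ) i ^ 2 = ∑ i, c i ^ 2 := Equiv.sum_comp σ (fun i => c i ^ 2)
    have hc : altMarg ν c = altMarg ν (c ∘ σ) := by
      simp only [altMarg, margCard_comp_perm]
    have hne : ν ≠ c ∘ σ := fun h => by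
      rw [← h] at hsq
      omega
    have h := sum_altMarg ν (c ∘ σ) hν hm
    rw [if_neg hne, Finset.sum_eq_single 1] at h
    · rw [hc]
      simpa [Function.comp_def] using h
    · intro τ _ hτne
      split_ifs with hτ
      · have hs := (sum_shift_sub (c ∘ σ) τ hτ).trans hsum'
        have hgt := sq_sum_lt_shift hm hτne hτ
        rw [hsq] at hgt
        have hbound : ∀ d : Fin n → ℕ, ∑ i, d i ^ 2 ≤ (∑ i, d i) ^ 2 := fun d => by
          simp only [sq]
          rw [Finset.sum_mul]
          exact Finset.sum_le_sum fun i hi =>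
            Nat.mul_le_mul_left _ (Finset.single_le_sum (fun j _ => Nat.zero_le (d j)) hi)
        have hb := hbound (fun i => (c ∘ σ) i + i.val - (τ i).val)
        rw [hs] at hb
        rw [ih ((∑ i, ν i) ^ 2 - ∑ i, ((c ∘ σ) i + i.val - (τ i).val) ^ 2) (by omega) _ hs le_rfl
          (lt_trans hlt hgt), mul_zero]
      · rfl
    · simp

theorem altMarg_self {ν : Fin n → ℕ} (hν : Monotone ν) : altMarg ν ν = 1 := by
  have h := sum_altMarg ν ν hν hν
  rw [if_pos rfl, Finset.sum_eq_single 1] at h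
  · simpa using h
  · intro τ _ hne
    split_ifs with hτ
    · rw [altMarg_eq_zero hν _ (sum_shift_sub ν τ hτ) (sq_sum_lt_shift hν hne hτ), mul_zero]
    · rfl
  · simp

end CfsgLib.GLn
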