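import Cfsg.Agent.GLn.Bruhat
import Cfsg.Agent.GLn.JacobiTrudi
import Mathlib.GroupTheory.GroupAction.Quotient
import Mathlib.LinearAlgebra.Matrix.Rank

/-!
# Double cosets of parabolic subgroups and of Young subgroups as matrices with given margins
-/

set_option autoImplicit false

namespace CfsgLib.GLn

open Finset Matrix
open scoped MatrixGroups

variable {n : ℕ}

section Orbits

variable {G : Type*} [Group G] [Fintype G]

/-- The scalar product of two permutation characters counts the double cosets, described by a complete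
invariant `t`. -/
theorem sum_fixedPointCharacter_mul (H K : Subgroup G) {T : Type*} (t : G → T)
    (hinv : ∀ g, ∀ h ∈ H, ∀ k ∈ K, t (h * g * k) = t g)
    (hsep : ∀ g g', t g = t g' → ∃ h ∈ H, ∃ k ∈ K, g' = h * g * k)
    (hsurj : Function.Surjective t) :
    ∑ g : G, Cfsg.fixedPointCharacter H g * Cfsg.fixedPointCharacter K g =
      (Nat.card G : ℂ) * (Nat.card T : ℂ) := by
  classical
  let X := (G ⧸ H) × (G ⧸ K)
  have hb := MulAction.sum_card_fixedBy_eq_card_orbits_mul_card_group G X
  have hfix : ∀ g : G, Fintype.card (MulAction.fixedBy X g) =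
      Nat.card (MulAction.fixedBy (G ⧸ H) g) * Nat.card (MulAction.fixedBy (G ⧸ K) g) := by
    intro g
    rw [← Nat.card_prod, ← Nat.card_eq_fintype_card]
    refine Nat.card_congr
      { toFun := fun x => (⟨x.1.1, (Prod.ext_iff.1 x.2).1⟩, ⟨x.1.2, (Prod.ext_iff.1 x.2).2⟩)
        invFun := fun x => ⟨(x.1.1, x.2.1), Prod.ext x.1.2 x.2.2⟩
        left_inv := fun x => rfl
        right_inv := fun x => rfl }
  let F₀ : X → T := fun x => Quotient.liftOn₂' x.1 x.2 (fun a b => t (a⁻¹ * b)) (by
    intro a b a' b' ha hb'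
    rw [QuotientGroup.leftRel_apply] at ha hb'
    have := hinv (a⁻¹ * b) (a⁻¹ * a')⁻¹ (inv_mem ha) _ hb'
    rw [← this]
    congr 1
    group)
  have hF₀ : ∀ a b : G, F₀ ((a : G ⧸ H), (b : G ⧸ K)) = t (a⁻¹ * b) := fun _ _ => rfl
  let F : MulAction.orbitRel.Quotient G X → T := fun q => Quotient.liftOn' q F₀ (by
    rintro ⟨x₁, x₂⟩ ⟨y₁, y₂⟩ hxy
    obtain ⟨g, hg⟩ := MulAction.orbitRel_apply.1 hxy
    induction y₁ using QuotientGroup.induction_on with | _ a => ?_
    induction y₂ using QuotientGroup.induction_on with | _ b => ?_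
    have hg' : ((((g * a : G) : G ⧸ H)), (((g * b : G) : G ⧸ K))) = (x₁, x₂) := hg
    rw [← hg', hF₀, hF₀]
    congr 1
    group)
  have hbij : Function.Bijective F := by
    refine ⟨?_, fun s => ?_⟩
    · intro q q'
      refine Quotient.inductionOn₂' q q' fun x y hxy => ?_
      obtain ⟨x₁, x₂⟩ := x
      obtain ⟨y₁, y₂⟩ := y
      induction x₁ using QuotientGroup.induction_on with | _ a => ?_
      induction x₂ using QuotientGroup.induction_on with | _ b => ?_
      induction y₁ using QuotientGroup.induction_on with | _ a' => ?_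
      induction y₂ using QuotientGroup.induction_on with | _ b' => ?_
      change t (a⁻¹ * b) = t (a'⁻¹ * b') at hxy
      obtain ⟨h, hh, k, hk, heq⟩ := hsep _ _ hxy
      refine Quotient.sound' (MulAction.orbitRel_apply.2 ⟨a * h⁻¹ * a'⁻¹, ?_⟩)
      refine Prod.ext ?_ ?_
      · change ((a * h⁻¹ * a'⁻¹ * a' : G) : G ⧸ H) = (a : G ⧸ H)
        rw [QuotientGroup.eq]
        convert hh using 1
        group
      · change ((a * h⁻¹ * a'⁻¹ * b' : G) : G ⧸ K) = (b : G ⧸ K)
        rw [QuotientGroup.eq, show (a * h⁻¹ * a'⁻¹ * b')⁻¹ * b = (a'⁻¹ * b')⁻¹ * h * (a⁻¹ * b) by group,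
          heq]
        convert inv_mem hk using 1
        group
    · obtain ⟨g, rfl⟩ := hsurj s
      refine ⟨Quotient.mk'' (((1 : G) : G ⧸ H), (g : G ⧸ K)), ?_⟩
      change t ((1 : G)⁻¹ * g) = t g
      rw [inv_one, one_mul]
  have hT := Nat.card_congr (Equiv.ofBijective F hbij)
  have h2 : (∑ g : G, Nat.card (MulAction.fixedBy (G ⧸ H) g) * Nat.card (MulAction.fixedBy (G ⧸ K) g)) =
      Nat.card G * Nat.card T := by
    rw [← Finset.sum_congr rfl fun g _ => hfix g, hb, ← hT, Nat.card_eq_fintype_card,
      Nat.card_eq_fintype_card, mul_comm]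
  simp only [Cfsg.fixedPointCharacter]
  exact_mod_cast h2

end Orbits

section Labels

/-- The number of positions before the `k`-th block. -/
def prefixSum (c : Fin n → ℕ) (k : ℕ) : ℕ := ∑ j ∈ univ.filter (fun j : Fin n => j.val < k), c j

theorem prefixSum_mono (c : Fin n → ℕ) : Monotone (prefixSum c) := fun a b hab =>
  Finset.sum_le_sum_of_subset fun j hj => by
    simp only [mem_filter, mem_univ, true_and] at hj ⊢
    omega

theorem prefixSum_succ (c : Fin n → ℕ) (a : Fin n) :
    prefixSum c (a.val + 1) = prefixSum c a.val + c a := by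
  rw [prefixSum, prefixSum, add_comm _ (c a), ← Finset.sum_insert (a := a) (by simp)]
  refine Finset.sum_congr ?_ fun _ _ => rfl
  ext j
  simp only [mem_filter, mem_univ, true_and, mem_insert, Fin.ext_iff]
  omega

theorem prefixSum_n {c : Fin n → ℕ} (hc : ∑ i, c i = n) : prefixSum c n = n := by
  rw [prefixSum, filter_true_of_mem fun j _ => j.isLt, hc]

theorem prefixSum_le {c : Fin n → ℕ} (hc : ∑ i, c i = n) (k : ℕ) : prefixSum c k ≤ n := by
  conv_rhs => rw [← hc]
  exact Finset.sum_le_sum_of_subset (subset_univ _)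

theorem compLabel_eq (c : Fin n → ℕ) (i : Fin n) :
    Cfsg.compLabel c i = (univ.filter fun j : Fin n => prefixSum c (j.val + 1) ≤ i.val).card := by
  refine congrArg Finset.card (Finset.filter_congr fun j _ => ?_)
  have : (univ.filter fun k : Fin n => k ≤ j) = univ.filter fun k : Fin n => k.val < j.val + 1 := by
    ext k
    simp only [mem_filter, mem_univ, true_and, Fin.le_def]
    omega
  rw [this, prefixSum]

theorem compLabel_mono (c : Fin n → ℕ) {i j : Fin n} (h : i ≤ j) :
    Cfsg.compLabel c i ≤ Cfsg.compLabel c j := by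
  rw [compLabel_eq, compLabel_eq]
  refine Finset.card_le_card fun k hk => ?_
  simp only [mem_filter, mem_univ, true_and] at hk ⊢
  exact le_trans hk h

theorem compLabel_eq_iff {c : Fin n → ℕ} (i a : Fin n) :
    Cfsg.compLabel c i = a.val ↔ prefixSum c a.val ≤ i.val ∧ i.val < prefixSum c (a.val + 1) := by
  have key : prefixSum c a.val ≤ i.val → i.val < prefixSum c (a.val + 1) →
      Cfsg.compLabel c i = a.val := fun h1 h2 => by
    rw [compLabel_eq]
    have : (univ.filter fun j : Fin n => prefixSum c (j.val + 1) ≤ i.val) = Finset.Iio a := by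
      ext j
      simp only [mem_filter, mem_univ, true_and, mem_Iio]
      constructor
      · intro h
        by_contra hc
        have : prefixSum c (a.val + 1) ≤ prefixSum c (j.val + 1) :=
          prefixSum_mono c (Nat.succ_le_succ (Fin.le_def.1 (not_lt.1 hc)))
        omega
      · intro h
        exact le_trans (prefixSum_mono c (Nat.succ_le_of_lt (Fin.lt_def.1 h))) h1
    rw [this, Fin.card_Iio]
  refine ⟨fun h => ?_, fun h => key h.1 h.2⟩
  -- the labels cut the positions into runs
  have hex : ∃ b : ℕ, b ≤ n ∧ prefixSum c b ≤ i.val :=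
    ⟨0, Nat.zero_le n, by simp [prefixSum]⟩
  let b := Nat.findGreatest (fun b => prefixSum c b ≤ i.val) n
  have hb : prefixSum c b ≤ i.val :=
    Nat.findGreatest_spec (P := fun b => prefixSum c b ≤ i.val) (Nat.zero_le n) (by simp [prefixSum])
  have hbn : b ≤ n := Nat.findGreatest_le n
  rcases hbn.lt_or_eq with hlt | heq
  · have h2 : i.val < prefixSum c (b + 1) := not_le.1 fun hc =>
      Nat.not_succ_le_self b (Nat.le_findGreatest hlt hc)
    have h3 : Cfsg.compLabel c i = b := by
      rw [compLabel_eq]
      have : (univ.filter fun j : Fin n => prefixSum c (j.val + 1) ≤ i.val) = Finset.Iio ⟨b, hlt⟩ := by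
        ext j
        simp only [mem_filter, mem_univ, true_and, mem_Iio, Fin.lt_def]
        constructor
        · intro h'
          by_contra hc
          have : prefixSum c (b + 1) ≤ prefixSum c (j.val + 1) :=
            prefixSum_mono c (Nat.succ_le_succ (not_lt.1 hc))
          omega
        · intro h'
          exact le_trans (prefixSum_mono c (Nat.succ_le_of_lt h')) hb
      rw [this, Fin.card_Iio]
    rw [h] at h3
    rw [h3]
    exact ⟨hb, h2⟩
  · exfalso
    have : Cfsg.compLabel c i = n := by
      have hall : (univ.filter fun j : Fin n => prefixSum c (j.val + 1) ≤ i.val) = univ :=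
        filter_true_of_mem fun j _ =>
          le_trans (prefixSum_mono c (le_trans (Nat.succ_le_of_lt j.isLt) heq.ge)) hb
      rw [compLabel_eq, hall, card_univ, Fintype.card_fin]
    have := a.isLt
    omega

theorem compLabel_lt {c : Fin n → ℕ} (hc : ∑ i, c i = n) (i : Fin n) : Cfsg.compLabel c i < n := by
  rw [compLabel_eq]
  refine lt_of_lt_of_le (Finset.card_lt_card (?_ : _ ⊂ (univ : Finset (Fin n)))) (by simp)
  refine Finset.filter_ssubset.2 ⟨⟨n - 1, by have := i.pos; omega⟩, mem_univ _, ?_⟩
  have := i.isLt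
  change ¬ prefixSum c (n - 1 + 1) ≤ i.val
  rw [Nat.sub_add_cancel i.pos, prefixSum_n hc]
  omega

/-- The block label as a position. -/
def blockOf {c : Fin n → ℕ} (hc : ∑ i, c i = n) (i : Fin n) : Fin n :=
  ⟨Cfsg.compLabel c i, compLabel_lt hc i⟩

theorem card_blockOf_fiber {c : Fin n → ℕ} (hc : ∑ i, c i = n) (a : Fin n) :
    (univ.filter fun i : Fin n => blockOf hc i = a).card = c a := by
  have h1 : (univ.filter fun i : Fin n => blockOf hc i = a).map Fin.valEmbedding =
      Finset.Ico (prefixSum c a.val) (prefixSum c (a.val + 1)) := by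
    ext x
    simp only [mem_map, mem_filter, mem_univ, true_and, Fin.valEmbedding_apply, mem_Ico, blockOf,
      Fin.ext_iff, compLabel_eq_iff]
    constructor
    · rintro ⟨i, hi, rfl⟩
      exact hi
    · intro hx
      exact ⟨⟨x, lt_of_lt_of_le hx.2 (prefixSum_le hc _)⟩, hx, rfl⟩
  rw [← Finset.card_map Fin.valEmbedding, h1, Nat.card_Ico, prefixSum_succ, Nat.add_sub_cancel_left]

end Labels

section Tables

/-- The natural matrices with margins `c` and `d`. -/
abbrev MargMat (c d : Fin n → ℕ) : Type :=
  {M : Fin n → Fin n → ℕ // (∀ i, ∑ j, M i j = c i) ∧ (∀ j, ∑ i, M i j = d j)}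

/-- The intersection numbers of two labellings. -/
def countTable (u v : Fin n → Fin n) (a b : Fin n) : ℕ :=
  (univ.filter fun j => u j = a ∧ v j = b).card

theorem sum_countTable_right (u v : Fin n → Fin n) (a : Fin n) :
    ∑ b, countTable u v a b = (univ.filter fun j => u j = a).card := by
  rw [Finset.card_eq_sum_card_fiberwise (f := v) (t := univ) fun j _ => mem_univ _]
  exact Finset.sum_congr rfl fun b _ => by rw [Finset.filter_filter]; rfl

theorem sum_countTable_left (u v : Fin n → Fin n) (b : Fin n) :
    ∑ a, countTable u v a b = (univ.filter fun j => v j = b).card := by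
  rw [Finset.card_eq_sum_card_fiberwise (f := u) (t := univ) fun j _ => mem_univ _]
  exact Finset.sum_congr rfl fun b _ => by
    rw [Finset.filter_filter]
    exact congrArg Finset.card (Finset.filter_congr fun j _ => and_comm)

theorem exists_perm_of_countTable {u v u' v' : Fin n → Fin n}
    (h : ∀ a b, countTable u v a b = countTable u' v' a b) :
    ∃ y : Equiv.Perm (Fin n), (∀ j, u' (y j) = u j) ∧ ∀ j, v' (y j) = v j := by
  classical
  have e : ∀ p : Fin n × Fin n, {j // (u j, v j) = p} ≃ {j // (u' j, v' j) = p} := fun p =>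
    Fintype.equivOfCardEq (by
      rw [Fintype.card_subtype, Fintype.card_subtype]
      simp only [Prod.ext_iff]
      exact h p.1 p.2)
  refine ⟨Equiv.ofFiberEquiv e, fun j => ?_, fun j => ?_⟩
  · exact congrArg Prod.fst (Equiv.ofFiberEquiv_map (f := fun j => (u j, v j))
      (g := fun j => (u' j, v' j)) e j)
  · exact congrArg Prod.snd (Equiv.ofFiberEquiv_map (f := fun j => (u j, v j))
      (g := fun j => (u' j, v' j)) e j)

variable {c d : Fin n → ℕ} (hc : ∑ i, c i = n) (hd : ∑ i, d i = n)

/-- The matrix attached to a permutation. -/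
def permTable (s : Equiv.Perm (Fin n)) : MargMat c d :=
  ⟨countTable (fun j => blockOf hc (s j)) (blockOf hd),
    fun a => by
      rw [sum_countTable_right]
      refine Eq.trans ?_ (card_blockOf_fiber hc a)
      rw [← Finset.card_map s.toEmbedding]
      refine congrArg Finset.card ?_
      ext i
      simp only [mem_map, mem_filter, mem_univ, true_and, Equiv.coe_toEmbedding]
      exact ⟨fun ⟨j, hj, e⟩ => e ▸ hj, fun hi => ⟨s.symm i, by simpa using hi, by simp⟩⟩,
    fun b => by rw [sum_countTable_left, card_blockOf_fiber]⟩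

theorem permTable_surjective : Function.Surjective (permTable hc hd) := by
  classical
  rintro ⟨M, hr, hk⟩
  have htot : Fintype.card (Σ p : Fin n × Fin n, Fin (M p.1 p.2)) = n := by
    rw [Fintype.card_sigma]
    simp only [Fintype.card_fin, Fintype.sum_prod_type, hr, hc]
  let E : Fin n ≃ Σ p : Fin n × Fin n, Fin (M p.1 p.2) :=
    (Fintype.equivFinOfCardEq htot).symm
  let h : Fin n → Fin n × Fin n := fun j => (E j).1
  have hM : ∀ a b, countTable (fun j => (h j).1) (fun j => (h j).2) a b = M a b := by
    intro a b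
    rw [countTable, ← Fintype.card_subtype, ← Fintype.card_fin (M a b)]
    refine Fintype.card_congr (Equiv.trans ?_ (Equiv.sigmaSubtype
      (β := fun p : Fin n × Fin n => Fin (M p.1 p.2)) (a, b)))
    refine E.subtypeEquiv fun j => ?_
    simp [h, Prod.ext_iff]
  have hfib : ∀ {w : Fin n → Fin n} {m : Fin n → ℕ},
      (∀ a, (univ.filter fun j => w j = a).card = m a) → ∀ {w' : Fin n → Fin n},
      (∀ a, (univ.filter fun j => w' j = a).card = m a) →
        ∃ y : Equiv.Perm (Fin n), ∀ j, w' (y j) = w j := by
    intro w m hw w' hw'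
    have e : ∀ a, {j // w j = a} ≃ {j // w' j = a} := fun a =>
      Fintype.equivOfCardEq (by rw [Fintype.card_subtype, Fintype.card_subtype, hw, hw'])
    exact ⟨Equiv.ofFiberEquiv e, fun j => Equiv.ofFiberEquiv_map e j⟩
  obtain ⟨y₁, hy₁⟩ := hfib (w := fun j => (h j).1) (m := c)
    (fun a => by rw [← sum_countTable_right _ (fun j => (h j).2), Finset.sum_congr rfl fun b _ => hM a b, hr])
    (w' := blockOf hc) (card_blockOf_fiber hc)
  obtain ⟨y₂, hy₂⟩ := hfib (w := fun j => (h j).2) (m := d)
    (fun b => by rw [← sum_countTable_left (fun j => (h j).1), Finset.sum_congr rfl fun a _ => hM a b, hk])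
    (w' := blockOf hd) (card_blockOf_fiber hd)
  refine ⟨y₁ * y₂⁻¹, Subtype.ext (funext fun a => funext fun b => ?_)⟩
  change countTable _ _ a b = M a b
  rw [← hM a b]
  rw [countTable, countTable, ← Finset.card_map y₂.toEmbedding
    (s := univ.filter fun j => (h j).1 = a ∧ (h j).2 = b)]
  refine congrArg Finset.card ?_
  ext i
  obtain ⟨j, rfl⟩ := y₂.surjective i
  simp only [mem_filter, mem_univ, true_and, mem_map, Equiv.coe_toEmbedding,
    EmbeddingLike.apply_eq_iff_eq, exists_eq_right, Equiv.Perm.mul_apply,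
    Equiv.Perm.coe_inv, Equiv.symm_apply_apply, hy₁, hy₂]

theorem mem_youngSubgroup (x : Equiv.Perm (Fin n)) :
    x ∈ Cfsg.youngSubgroup c ↔ ∀ i, blockOf hc (x i) = blockOf hc i := by
  refine forall_congr' fun i => ?_
  simp [blockOf, Fin.ext_iff]

theorem exists_young_of_permTable {s s' : Equiv.Perm (Fin n)}
    (h : permTable hc hd s = permTable hc hd s') :
    ∃ x ∈ Cfsg.youngSubgroup c, ∃ k ∈ Cfsg.youngSubgroup d, s' = x * s * k := by
  obtain ⟨y, h1, h2⟩ := exists_perm_of_countTable fun a b => congrFun (congrFun (congrArg Subtype.val h) a) b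
  refine ⟨s' * y * s⁻¹, (mem_youngSubgroup hc _).2 fun i => ?_, y⁻¹,
    inv_mem ((mem_youngSubgroup hd y).2 h2), by group⟩
  have := h1 (s⁻¹ i)
  simpa using this

theorem permTable_young (s : Equiv.Perm (Fin n)) {x : Equiv.Perm (Fin n)}
    (hx : x ∈ Cfsg.youngSubgroup c) {k : Equiv.Perm (Fin n)} (hk : k ∈ Cfsg.youngSubgroup d) :
    permTable hc hd (x * s * k) = permTable hc hd s := by
  rw [mem_youngSubgroup hc] at hx
  rw [mem_youngSubgroup hd] at hk
  refine Subtype.ext (funext fun a => funext fun b => ?_)
  change countTable _ _ a b = countTable _ _ a b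
  rw [countTable, countTable, ← Finset.card_map k.toEmbedding]
  refine congrArg Finset.card ?_
  ext i
  obtain ⟨j, rfl⟩ := k.surjective i
  simp only [mem_filter, mem_univ, true_and, mem_map, Equiv.coe_toEmbedding,
    EmbeddingLike.apply_eq_iff_eq, exists_eq_right, Equiv.Perm.mul_apply, hx, hk]

include hc hd in
/-- The scalar product of the permutation characters on two Young subgroups. -/
theorem sum_young :
    ∑ σ : Equiv.Perm (Fin n),
        Cfsg.fixedPointCharacter (Cfsg.youngSubgroup c) σ *
          Cfsg.fixedPointCharacter (Cfsg.youngSubgroup d) σ =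
      (Nat.card (Equiv.Perm (Fin n)) : ℂ) * (margCard c d : ℂ) :=
  sum_fixedPointCharacter_mul _ _ (permTable hc hd)
    (fun s _ hx _ hk => permTable_young hc hd s hx hk)
    (fun _ _ h => exists_young_of_permTable hc hd h) (permTable_surjective hc hd)

section LinearGroup

variable {F : Type*} [Field F]

theorem upperTriangular_le_parabolic (c : Fin n → ℕ) :
    Cfsg.upperTriangularGL n F ≤ Cfsg.parabolicGL n F c := fun g hg i j hij =>
  hg (show j < i from not_le.1 fun h => absurd (compLabel_mono c h) (not_le.2 hij))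

theorem permGL_mem_parabolic {x : Equiv.Perm (Fin n)} (hx : x ∈ Cfsg.youngSubgroup c) :
    permGL F x ∈ Cfsg.parabolicGL n F c := fun i j hij => by
  rw [permGL_apply, if_neg]
  intro h
  rw [← h, hx j] at hij
  exact lt_irrefl _ hij

/-- The rank of a corner cut out by the two labellings. -/
noncomputable def cornerRank (c d : Fin n → ℕ) (g : GL (Fin n) F) (a b : ℕ) : ℕ :=
  ((g : Matrix (Fin n) (Fin n) F).submatrix
    (Subtype.val : {i // a ≤ Cfsg.compLabel c i} → Fin n)
    (Subtype.val : {j // Cfsg.compLabel d j < b} → Fin n)).rank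

theorem cornerRank_le {p q : GL (Fin n) F} (hp : p ∈ Cfsg.parabolicGL n F c)
    (hq : q ∈ Cfsg.parabolicGL n F d) (g : GL (Fin n) F) (a b : ℕ) :
    cornerRank c d (p * g * q) a b ≤ cornerRank c d g a b := by
  classical
  unfold cornerRank
  have h : ((p * g * q : GL (Fin n) F) : Matrix (Fin n) (Fin n) F).submatrix
      (Subtype.val : {i // a ≤ Cfsg.compLabel c i} → Fin n)
      (Subtype.val : {j // Cfsg.compLabel d j < b} → Fin n) =
      (p : Matrix (Fin n) (Fin n) F).submatrix
        (Subtype.val : {i // a ≤ Cfsg.compLabel c i} → Fin n)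
        (Subtype.val : {i // a ≤ Cfsg.compLabel c i} → Fin n) *
      (g : Matrix (Fin n) (Fin n) F).submatrix
        (Subtype.val : {i // a ≤ Cfsg.compLabel c i} → Fin n)
        (Subtype.val : {j // Cfsg.compLabel d j < b} → Fin n) *
      (q : Matrix (Fin n) (Fin n) F).submatrix
        (Subtype.val : {j // Cfsg.compLabel d j < b} → Fin n)
        (Subtype.val : {j // Cfsg.compLabel d j < b} → Fin n) := by
    ext i j
    simp only [Units.val_mul, Matrix.submatrix_apply, Matrix.mul_apply]
    have h1 : ∀ k : {j // Cfsg.compLabel d j < b},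
        ∑ x : {i // a ≤ Cfsg.compLabel c i}, (p : Matrix (Fin n) (Fin n) F) i x *
          (g : Matrix (Fin n) (Fin n) F) x k =
        ∑ x, (p : Matrix (Fin n) (Fin n) F) i x * (g : Matrix (Fin n) (Fin n) F) x k := fun k => by
      rw [← Finset.sum_subtype (univ.filter fun x => a ≤ Cfsg.compLabel c x) (by simp)
        fun x => (p : Matrix (Fin n) (Fin n) F) i x * (g : Matrix (Fin n) (Fin n) F) x k]
      refine Finset.sum_subset (subset_univ _) fun x _ hx => ?_
      simp only [mem_filter, mem_univ, true_and, not_le] at hx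
      rw [hp (show Cfsg.compLabel c x < Cfsg.compLabel c i from lt_of_lt_of_le hx i.2), zero_mul]
    symm
    rw [Finset.sum_congr rfl fun k _ => by rw [h1 k],
      ← Finset.sum_subtype (univ.filter fun x => Cfsg.compLabel d x < b) (by simp)
        fun x => (∑ k, (p : Matrix (Fin n) (Fin n) F) i k * (g : Matrix (Fin n) (Fin n) F) k x) *
          (q : Matrix (Fin n) (Fin n) F) x j]
    refine Finset.sum_subset (subset_univ _) fun x _ hx => ?_
    simp only [mem_filter, mem_univ, true_and, not_lt] at hx
    rw [hq (show Cfsg.compLabel d j < Cfsg.compLabel d x from lt_of_lt_of_le j.2 hx), mul_zero]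
  rw [h]
  exact le_trans (Matrix.rank_mul_le_left _ _) (Matrix.rank_mul_le_right _ _)

theorem cornerRank_mul_mul {p q : GL (Fin n) F} (hp : p ∈ Cfsg.parabolicGL n F c)
    (hq : q ∈ Cfsg.parabolicGL n F d) (g : GL (Fin n) F) (a b : ℕ) :
    cornerRank c d (p * g * q) a b = cornerRank c d g a b := by
  refine le_antisymm (cornerRank_le hp hq g a b) ?_
  have := cornerRank_le (inv_mem hp) (inv_mem hq) (p * g * q) a b
  rwa [show p⁻¹ * (p * g * q) * q⁻¹ = g by group] at this

theorem cornerRank_permGL (s : Equiv.Perm (Fin n)) (a b : ℕ) :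
    cornerRank c d (permGL F s) a b =
      (univ.filter fun j => a ≤ Cfsg.compLabel c (s j) ∧ Cfsg.compLabel d j < b).card := by
  classical
  rw [← Fintype.card_subtype]
  let J := {j : Fin n // a ≤ Cfsg.compLabel c (s j) ∧ Cfsg.compLabel d j < b}
  refine le_antisymm ?_ ?_
  · unfold cornerRank
    have h : ((permGL F s : GL (Fin n) F) : Matrix (Fin n) (Fin n) F).submatrix
        (Subtype.val : {i // a ≤ Cfsg.compLabel c i} → Fin n)
        (Subtype.val : {j // Cfsg.compLabel d j < b} → Fin n) =
        (Matrix.of fun (i : {i // a ≤ Cfsg.compLabel c i}) (k : J) =>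
          if s k.1 = i.1 then (1 : F) else 0) *
        (Matrix.of fun (k : J) (j : {j // Cfsg.compLabel d j < b}) =>
          if k.1 = j.1 then (1 : F) else 0) := by
      ext i j
      rw [Matrix.mul_apply, Matrix.submatrix_apply, permGL_apply]
      by_cases hij : s j.1 = i.1
      · rw [if_pos hij, Finset.sum_eq_single (⟨j.1, hij ▸ i.2, j.2⟩ : J)]
        · simp [hij]
        · intro k _ hk
          have : k.1 ≠ j.1 := fun h => hk (Subtype.ext h)
          simp [this]
        · simp
      · rw [if_neg hij, Finset.sum_eq_zero]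
        intro k _
        by_cases hk : k.1 = j.1
        · simp [hk, hij]
        · simp [hk]
    rw [h]
    exact le_trans (Matrix.rank_mul_le_left _ _) (Matrix.rank_le_card_width _)
  · have h : (((permGL F s : GL (Fin n) F) : Matrix (Fin n) (Fin n) F).submatrix
        (Subtype.val : {i // a ≤ Cfsg.compLabel c i} → Fin n)
        (Subtype.val : {j // Cfsg.compLabel d j < b} → Fin n)).submatrix
          (fun k : J => ⟨s k.1, k.2.1⟩) (fun k : J => ⟨k.1, k.2.2⟩) = 1 := by
      ext k l
      by_cases hkl : k = l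
      · subst hkl
        simp [permGL_apply]
      · have h' : l.1 ≠ k.1 := fun e => hkl (Subtype.ext e.symm)
        simp [permGL_apply, Matrix.one_apply, hkl, h']
    have := Matrix.rank_submatrix_le (((permGL F s : GL (Fin n) F) : Matrix (Fin n) (Fin n) F).submatrix
        (Subtype.val : {i // a ≤ Cfsg.compLabel c i} → Fin n)
        (Subtype.val : {j // Cfsg.compLabel d j < b} → Fin n))
        (fun k : J => ⟨s k.1, k.2.1⟩) (fun k : J => ⟨k.1, k.2.2⟩)
    rw [h, Matrix.rank_one] at this
    exact this

theorem permTable_eq_of_cornerRank {s s' : Equiv.Perm (Fin n)}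
    (h : ∀ a b, cornerRank c d (permGL F s) a b = cornerRank c d (permGL F s') a b) :
    permTable hc hd s = permTable hc hd s' := by
  refine Subtype.ext (funext fun a => funext fun b => ?_)
  have key : ∀ t : Equiv.Perm (Fin n),
      countTable (fun j => blockOf hc (t j)) (blockOf hd) a b +
        cornerRank c d (permGL F t) a.val b.val +
        cornerRank c d (permGL F t) (a.val + 1) (b.val + 1) =
      cornerRank c d (permGL F t) a.val (b.val + 1) +
        cornerRank c d (permGL F t) (a.val + 1) b.val := by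
    intro t
    simp only [cornerRank_permGL, countTable, Finset.card_filter, ← Finset.sum_add_distrib,
      blockOf, Fin.ext_iff]
    refine Finset.sum_congr rfl fun j _ => ?_
    split_ifs <;> omega
  have h1 := key s
  have h2 := key s'
  simp only [h] at h1
  change countTable _ _ a b = countTable _ _ a b
  omega

/-- The matrix attached to an invertible matrix through its Bruhat permutation. -/
noncomputable def glTable (g : GL (Fin n) F) : MargMat c d :=
  permTable hc hd (Classical.choose (exists_bruhat g))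

theorem exists_glTable (g : GL (Fin n) F) :
    ∃ s, glTable hc hd g = permTable hc hd s ∧ ∃ p ∈ Cfsg.parabolicGL n F c,
      ∃ q ∈ Cfsg.parabolicGL n F d, g = p * permGL F s * q := by
  obtain ⟨b, hb, u, hu, h⟩ := Classical.choose_spec (exists_bruhat g)
  exact ⟨_, rfl, b, upperTriangular_le_parabolic c hb, u, upperTriangular_le_parabolic d hu, h⟩

theorem glTable_eq {g : GL (Fin n) F} {s : Equiv.Perm (Fin n)} {p q : GL (Fin n) F}
    (hp : p ∈ Cfsg.parabolicGL n F c) (hq : q ∈ Cfsg.parabolicGL n F d)
    (hg : g = p * permGL F s * q) : glTable hc hd g = permTable hc hd s := by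
  obtain ⟨s', h', p', hp', q', hq', hg'⟩ := exists_glTable hc hd g
  rw [h']
  refine permTable_eq_of_cornerRank (F := F) hc hd fun a b => ?_
  rw [← cornerRank_mul_mul hp' hq' (permGL F s') a b, ← hg', hg, cornerRank_mul_mul hp hq]

include hc hd in
/-- The scalar product of the permutation characters on two parabolic subgroups. -/
theorem sum_parabolic [Fintype (GL (Fin n) F)] :
    ∑ g : GL (Fin n) F,
        Cfsg.fixedPointCharacter (Cfsg.parabolicGL n F c) g *
          Cfsg.fixedPointCharacter (Cfsg.parabolicGL n F d) g =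
      (Nat.card (GL (Fin n) F) : ℂ) * (margCard c d : ℂ) := by
  refine sum_fixedPointCharacter_mul _ _ (glTable (F := F) hc hd) ?_ ?_ ?_
  · intro g h hh k hk
    obtain ⟨s, hs, p, hp, q, hq, hg⟩ := exists_glTable hc hd g
    rw [hs]
    exact glTable_eq hc hd (mul_mem hh hp) (mul_mem hq hk) (by rw [hg]; group)
  · intro g g' h
    obtain ⟨s, hs, p, hp, q, hq, hg⟩ := exists_glTable hc hd g
    obtain ⟨s', hs', p', hp', q', hq', hg'⟩ := exists_glTable hc hd g'
    obtain ⟨x, hx, k, hk, e⟩ := exists_young_of_permTable hc hd (hs.symm.trans (h.trans hs'))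
    refine ⟨p' * permGL F x * p⁻¹,
      mul_mem (mul_mem hp' (permGL_mem_parabolic hx)) (inv_mem hp),
      q⁻¹ * permGL F k * q', mul_mem (mul_mem (inv_mem hq) (permGL_mem_parabolic hk)) hq', ?_⟩
    rw [hg', hg, e, map_mul, map_mul]
    group
  · intro M
    obtain ⟨s, rfl⟩ := permTable_surjective hc hd M
    exact ⟨permGL F s, glTable_eq hc hd (one_mem _) (one_mem _) (by group)⟩

end LinearGroup

end Tables

end CfsgLib.GLn
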