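import Cfsg.Agent.GLn.Characters
import Cfsg.Agent.GLn.Degree
import Cfsg.Agent.Char.DegreeRatio
import Cfsg.Agent.Char.Constituents
import Cfsg.Agent.Blocks.DefectZeroVanish
import Cfsg.Agent.Blocks.NormalSub
import Mathlib.LinearAlgebra.Matrix.ProjectiveSpecialLinearGroup

/-!
# The Steinberg character of the special and projective special linear groups
-/

set_option autoImplicit false

namespace CfsgLib.GLn

open Finset
open scoped MatrixGroups

set_option linter.unusedSectionVars false
set_option linter.style.haveILetI false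

universe u

/-- An irreducible character of prime power degree restricts irreducibly to a normal subgroup of
coprime index. -/
theorem isIrr_restrict_of_coprime {G : Type u} [Group G] [Fintype G] (N : Subgroup G) [N.Normal]
    {p a : ℕ} (hp : p.Prime) {χ : G → ℂ} (hχ : Cfsg.IsIrrCharacter G χ)
    (h1 : χ 1 = ((p ^ a : ℕ) : ℂ)) (hN : ¬ p ∣ N.index) :
    Cfsg.IsIrrCharacter N (fun x : N => χ x) := by
  classical
  haveI : Fintype N := Fintype.ofFinite _
  obtain ⟨θ, hθ, hc⟩ := CfsgLib.Char.exists_constituent_restrict (N := N) hχ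
  obtain ⟨k, hk, hk1⟩ := CfsgLib.Char.exists_degree_ratio hχ hθ hc
  obtain ⟨m, -, hm⟩ := CfsgLib.Char.IsIrrCharacter.exists_degree hθ
  rw [h1, hm, ← Nat.cast_mul, Nat.cast_inj] at hk1
  have hk' : k = 1 := by
    obtain ⟨b, -, hb⟩ := (Nat.dvd_prime_pow hp).1 (Dvd.intro m hk1.symm)
    rcases Nat.eq_zero_or_pos b with rfl | hb0
    · exact hb.trans (pow_zero p)
    · exact absurd ((hb ▸ dvd_pow_self p hb0.ne').trans hk) hN
  rw [hk', one_mul] at hk1
  have h := CfsgLib.Char.IsCharacter.eq_of_constituent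
    (CfsgLib.Char.IsCharacter.restrict (CfsgLib.Char.IsIrrCharacter.isCharacter hχ) N) hθ hc
    (by rw [OneMemClass.coe_one, h1, hm, hk1])
  exact h ▸ hθ

/-- The sum `1 + q + ⋯ + q ^ (a + c)` split at `a`. -/
theorem qInt_sub (q a c : ℕ) :
    (qInt q (a + c) : ℂ) - (qInt q a : ℂ) = (q : ℂ) ^ a * (qInt q c : ℂ) := by
  rw [qInt_add]
  push_cast
  ring

theorem not_dvd_qInt {p q : ℕ} (hp : p.Prime) (hq : p ∣ q) (r : ℕ) :
    ¬ p ∣ qInt q (r + 1) := by
  rw [qInt, Finset.sum_range_succ', pow_zero, Nat.dvd_add_right]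
  · exact hp.not_dvd_one
  · exact Finset.dvd_sum fun i _ => hq.trans (dvd_pow_self q i.succ_ne_zero)

variable {n : ℕ} {F : Type*} [Field F] [Fintype F]

/-- The Steinberg character of `GL n`. -/
noncomputable def steinberg (n : ℕ) (F : Type*) [Field F] : GL (Fin n) F → ℂ :=
  Cfsg.unipotentCharacterGL n F fun _ => 1

theorem isIrr_steinberg [Fintype (GL (Fin n) F)] :
    Cfsg.IsIrrCharacter (GL (Fin n) F) (steinberg n F) :=
  isIrrCharacter_unipotent monotone_const (by simp)

theorem steinberg_one :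
    steinberg n F 1 = ((Fintype.card F ^ triangle n : ℕ) : ℂ) := by
  set q := Fintype.card F with hq
  have hq0 : 0 < q := Fintype.card_pos
  have h1 := unipotent_one_mul (n := n) (F := F) (ν := fun _ => 1) (by simp)
  have h2 := det_falling (n := n) q fun i : Fin n => 1 + i.val
  rw [← sum_triangle n, Nat.mul_div_cancel_left _ (by norm_num : 0 < 6)] at h2
  have hinner : ∀ j : Fin n, ∏ i ∈ Iio j, ((qInt q (1 + j.val) : ℂ) - (qInt q (1 + i.val) : ℂ)) =
      (q : ℂ) ^ (j.val + triangle j.val) * (qFact q j.val : ℂ) := by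
    intro j
    have e : ∏ i ∈ Iio j, ((qInt q (1 + j.val) : ℂ) - (qInt q (1 + i.val) : ℂ)) =
        ∏ i ∈ Finset.range j.val, ((qInt q (1 + j.val) : ℂ) - (qInt q (1 + i) : ℂ)) := by
      rw [← Nat.Iio_eq_range, ← Fin.map_valEmbedding_Iio, Finset.prod_map]
      rfl
    have e2 : ∀ i ∈ Finset.range j.val, ((qInt q (1 + j.val) : ℂ) - (qInt q (1 + i) : ℂ)) =
        (q : ℂ) ^ (1 + i) * (qInt q (j.val - i) : ℂ) := fun i hi => by
      rw [← qInt_sub]
      have := Finset.mem_range.1 hi
      rw [show 1 + i + (j.val - i) = 1 + j.val by omega]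
    rw [e, Finset.prod_congr rfl e2, Finset.prod_mul_distrib, Finset.prod_pow_eq_pow_sum,
      Finset.sum_add_distrib, Finset.sum_const, Finset.card_range, smul_eq_mul, mul_one,
      ← triangle]
    congr 1
    rw [← Finset.prod_range_reflect, qFact, Nat.cast_prod]
    refine Finset.prod_congr rfl fun i hi => ?_
    have := Finset.mem_range.1 hi
    rw [show j.val - (j.val - 1 - i) = i + 1 by omega]
  have hswap : ∏ i : Fin n, ∏ j ∈ Ioi i, ((qInt q (1 + j.val) : ℂ) - (qInt q (1 + i.val) : ℂ)) =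
      (q : ℂ) ^ (∑ j ∈ Finset.range n, (j + triangle j)) * ∏ j : Fin n, (qFact q j.val : ℂ) := by
    rw [Finset.prod_comm' (t' := Finset.univ) (s' := fun j => Iio j) (fun i j => by simp),
      Finset.prod_congr rfl fun j _ => hinner j, Finset.prod_mul_distrib,
      Finset.prod_pow_eq_pow_sum, Finset.sum_range]
  have hfact : (qFact q n : ℂ) * ∏ j : Fin n, (qFact q j.val : ℂ) =
      ∏ i : Fin n, (qFact q (1 + i.val) : ℂ) := by
    simp_rw [add_comm 1]
    rw [← Finset.prod_range (fun j => (qFact q j : ℂ)),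
      ← Finset.prod_range (fun j => (qFact q (j + 1) : ℂ)), mul_comm, ← Finset.prod_range_succ,
      Finset.prod_range_succ', show qFact q 0 = 1 from rfl, Nat.cast_one, mul_one]
  have hsum : ∑ j ∈ Finset.range n, (j + triangle j) = triangle n + ∑ j ∈ Finset.range n, triangle j := by
    rw [Finset.sum_add_distrib, ← triangle]
  rw [hswap, hsum, pow_add] at h2
  have hne : (∏ i : Fin n, (qFact q (1 + i.val) : ℂ)) * (q : ℂ) ^ (∑ j ∈ Finset.range n, triangle j) ≠ 0 :=
    mul_ne_zero (Finset.prod_ne_zero_iff.2 fun i _ => Nat.cast_ne_zero.2 (qFact_pos hq0 _).ne')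
      (pow_ne_zero _ (Nat.cast_ne_zero.2 hq0.ne'))
  refine mul_right_cancel₀ hne ?_
  calc steinberg n F 1 * ((∏ i : Fin n, (qFact q (1 + i.val) : ℂ)) *
        (q : ℂ) ^ (∑ j ∈ Finset.range n, triangle j))
      = (qFact q n : ℂ) * ((Matrix.of fun i j : Fin n =>
          ((∏ t ∈ Finset.range j.val, qInt q (1 + i.val - t) : ℕ) : ℂ)).det *
            (q : ℂ) ^ (∑ j ∈ Finset.range n, triangle j)) := by
        rw [← mul_assoc, ← mul_assoc, show steinberg n F 1 * _ = _ from h1]
    _ = _ := by
        rw [h2, ← hfact]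
        push_cast
        ring

variable (p : ℕ) [Fact p.Prime] [CharP F p]

theorem dvd_card : p ∣ Fintype.card F :=
  (CharP.cast_eq_zero_iff F p _).1 (FiniteField.cast_card_eq_zero F)

theorem ordProj_card_GL :
    p ^ (Nat.card (GL (Fin n) F)).factorization p = Fintype.card F ^ triangle n := by
  have hp : p.Prime := Fact.out
  have hq : 1 < Fintype.card F := Fintype.one_lt_card
  obtain ⟨f, -, hf⟩ := FiniteField.card F p
  have hnd : ¬ p ∣ (Fintype.card F - 1) ^ n * qFact (Fintype.card F) n := by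
    rw [hp.dvd_mul, not_or]
    refine ⟨fun h => ?_, ?_⟩
    · have h' := hp.dvd_of_dvd_pow h
      have := Nat.dvd_sub (dvd_card (F := F) p) h'
      rw [Nat.sub_sub_self hq.le] at this
      exact hp.not_dvd_one this
    · rw [qFact, hp.prime.dvd_finsetProd_iff]
      rintro ⟨j, -, hj⟩
      exact not_dvd_qInt hp (dvd_card (F := F) p) j hj
  rw [card_GL_eq (Fintype.card_fin n), mul_assoc, Nat.factorization_mul
    (pow_ne_zero _ (by omega)) (mul_ne_zero (pow_ne_zero _ (by omega)) (qFact_pos (by omega) n).ne'),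
    Finsupp.add_apply, Nat.factorization_eq_zero_of_not_dvd hnd, add_zero, hf, ← pow_mul,
    hp.factorization_pow, Finsupp.single_eq_same]

variable [NeZero n]

theorem index_range_toGL :
    (Matrix.SpecialLinearGroup.toGL (n := Fin n) (R := F)).range.index = Fintype.card F - 1 := by
  classical
  have h : (Matrix.SpecialLinearGroup.toGL (n := Fin n) (R := F)).range =
      (Matrix.GeneralLinearGroup.det (n := Fin n) (R := F)).ker := by
    ext g
    rw [MonoidHom.mem_ker, Units.ext_iff]
    exact ⟨by rintro ⟨s, rfl⟩; exact s.2, fun h => ⟨⟨g, h⟩, Units.ext rfl⟩⟩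
  rw [h, Subgroup.index_ker, MonoidHom.range_eq_top.2 Matrix.GeneralLinearGroup.det_surjective,
    Subgroup.card_top, Nat.card_eq_fintype_card, Fintype.card_units]

theorem not_dvd_card_sub_one : ¬ p ∣ Fintype.card F - 1 := fun h => by
  have := Nat.dvd_sub (dvd_card (F := F) p) h
  rw [Nat.sub_sub_self (Fintype.card_pos (α := F))] at this
  exact (Fact.out : p.Prime).not_dvd_one this

theorem factorization_card_SL :
    (Nat.card (Matrix.SpecialLinearGroup (Fin n) F)).factorization p =
      (Nat.card (GL (Fin n) F)).factorization p := by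
  classical
  rw [← Subgroup.index_mul_card (Matrix.SpecialLinearGroup.toGL (n := Fin n) (R := F)).range,
    index_range_toGL, ← Nat.card_congr (MonoidHom.ofInjective
      (Matrix.SpecialLinearGroup.toGL_injective (n := Fin n) (R := F))).toEquiv,
    Nat.factorization_mul (Nat.sub_ne_zero_of_lt Fintype.one_lt_card) Nat.card_pos.ne',
    Finsupp.add_apply, Nat.factorization_eq_zero_of_not_dvd (not_dvd_card_sub_one p), zero_add]

/-- The Steinberg character of `SL n`, trivial on the center. -/
theorem exists_steinberg_SL :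
    ∃ χ : Cfsg.IrrCharacter (Matrix.SpecialLinearGroup (Fin n) F),
      (χ : Matrix.SpecialLinearGroup (Fin n) F → ℂ) 1 =
        ((p ^ (Nat.card (Matrix.SpecialLinearGroup (Fin n) F)).factorization p : ℕ) : ℂ) ∧
      ∀ z ∈ Subgroup.center (Matrix.SpecialLinearGroup (Fin n) F),
        (χ : Matrix.SpecialLinearGroup (Fin n) F → ℂ) z =
          (χ : Matrix.SpecialLinearGroup (Fin n) F → ℂ) 1 := by
  classical
  haveI : Fintype (GL (Fin n) F) := Fintype.ofFinite _
  set R := (Matrix.SpecialLinearGroup.toGL (n := Fin n) (R := F)).range with hR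
  haveI : R.Normal := by
    have h : R = (Matrix.GeneralLinearGroup.det (n := Fin n) (R := F)).ker := by
      ext g
      rw [MonoidHom.mem_ker, Units.ext_iff]
      exact ⟨by rintro ⟨s, rfl⟩; exact s.2, fun h => ⟨⟨g, h⟩, Units.ext rfl⟩⟩
    rw [h]; infer_instance
  have hirr := isIrr_restrict_of_coprime R (Fact.out : p.Prime) (isIrr_steinberg (n := n) (F := F))
    (a := (Nat.card (GL (Fin n) F)).factorization p)
    (by rw [steinberg_one, ordProj_card_GL])
    (by rw [hR, index_range_toGL]; exact not_dvd_card_sub_one p)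
  let e := MonoidHom.ofInjective (Matrix.SpecialLinearGroup.toGL_injective (n := Fin n) (R := F))
  refine ⟨⟨_, CfsgLib.Char.IsIrrCharacter.comp_surjective hirr e.toMonoidHom e.surjective⟩, ?_, ?_⟩
  · show steinberg n F ((e 1 : R) : GL (Fin n) F) = _
    rw [map_one, OneMemClass.coe_one, steinberg_one, factorization_card_SL, ordProj_card_GL]
  · intro z hz
    show steinberg n F ((e z : R) : GL (Fin n) F) = steinberg n F ((e 1 : R) : GL (Fin n) F)
    rw [map_one, OneMemClass.coe_one]
    obtain ⟨r, -, hr⟩ := Matrix.SpecialLinearGroup.mem_center_iff.1 hz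
    set Z : GL (Fin n) F := ((e z : R) : GL (Fin n) F) with hZdef
    have hval : (Z : Matrix (Fin n) (Fin n) F) = Matrix.scalar (Fin n) r := by
      rw [hr]; rfl
    have hcomm : ∀ g : GL (Fin n) F, Z * g = g * Z := fun g => Units.ext (by
      rw [Units.val_mul, Units.val_mul, hval]
      exact (Matrix.scalar_commute r (Commute.all r) _).eq)
    have hfix : ∀ c : Fin n → ℕ, Cfsg.fixedPointCharacter (Cfsg.parabolicGL n F c) Z =
        Cfsg.fixedPointCharacter (Cfsg.parabolicGL n F c) 1 := by
      intro c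
      have hmem : Z ∈ Cfsg.parabolicGL n F c := fun i j h => by
        have hij : i ≠ j := fun he => absurd (he ▸ h) (lt_irrefl _)
        rw [hval, Matrix.scalar_apply, Matrix.diagonal_apply_ne _ hij]
      simp only [Cfsg.fixedPointCharacter]
      congr 2
      refine congrArg (fun s : Set (GL (Fin n) F ⧸ Cfsg.parabolicGL n F c) => (s : Type _)) ?_
      rw [MulAction.fixedBy_one_eq_univ]
      refine Set.eq_univ_of_forall fun x => ?_
      obtain ⟨g, rfl⟩ := QuotientGroup.mk_surjective x
      rw [MulAction.mem_fixedBy, MulAction.Quotient.smul_mk, QuotientGroup.eq, smul_eq_mul, hcomm g,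
        mul_inv_rev, mul_assoc, inv_mul_cancel, mul_one]
      exact inv_mem hmem
    simp only [steinberg, Cfsg.unipotentCharacterGL, hfix]

/-- The Steinberg character of `PSL n`. -/
theorem exists_steinberg_PSL :
    ∃ χ : Matrix.ProjectiveSpecialLinearGroup (Fin n) F → ℂ,
      Cfsg.IsIrrCharacter (Matrix.ProjectiveSpecialLinearGroup (Fin n) F) χ ∧
      ∀ P : Sylow p (Matrix.ProjectiveSpecialLinearGroup (Fin n) F), χ 1 = Nat.card P ∧
        ∀ x : Matrix.ProjectiveSpecialLinearGroup (Fin n) F, x ∈ P → x ≠ 1 → χ x = 0 := by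
  classical
  have hp : p.Prime := Fact.out
  haveI : Fintype (Matrix.SpecialLinearGroup (Fin n) F) := Fintype.ofFinite _
  set Z := Subgroup.center (Matrix.SpecialLinearGroup (Fin n) F)
  haveI : Fintype (Matrix.SpecialLinearGroup (Fin n) F ⧸ Z) := Fintype.ofFinite _
  obtain ⟨χ, h1, hker⟩ := exists_steinberg_SL (n := n) (F := F) p
  obtain ⟨φ, hφ⟩ := CfsgLib.Block.exists_quotient_irr Z χ hker
  have hZp : ¬ p ∣ Nat.card Z := by
    intro h
    obtain ⟨⟨z, hz⟩, hzo⟩ := exists_prime_orderOf_dvd_card' p h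
    rw [Subgroup.orderOf_mk] at hzo
    obtain ⟨r, -, hr⟩ := Matrix.SpecialLinearGroup.mem_center_iff.1 hz
    have hzp : z ^ p = 1 := hzo ▸ pow_orderOf_eq_one z
    have hrp : r ^ p = 1 := by
      have := congrArg Subtype.val hzp
      rw [Matrix.SpecialLinearGroup.coe_pow, ← hr, ← map_pow, Matrix.SpecialLinearGroup.coe_one,
        ← map_one (Matrix.scalar (Fin n)), Matrix.scalar_inj] at this
      exact this
    haveI : Fact p.Prime := ⟨hp⟩
    have hr1 : r = 1 := by
      have : (r - 1) ^ p = 0 := by rw [sub_pow_char, hrp, one_pow, sub_self]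
      exact sub_eq_zero.1 (pow_eq_zero_iff hp.ne_zero |>.1 this)
    rw [show z = 1 from Subtype.ext (by rw [← hr, hr1, map_one]; rfl), orderOf_one] at hzo
    exact hp.ne_one hzo.symm
  have hcard : (Nat.card (Matrix.SpecialLinearGroup (Fin n) F ⧸ Z)).factorization p =
      (Nat.card (Matrix.SpecialLinearGroup (Fin n) F)).factorization p := by
    rw [Subgroup.card_eq_card_quotient_mul_card_subgroup Z,
      Nat.factorization_mul Nat.card_pos.ne' Nat.card_pos.ne', Finsupp.add_apply,
      Nat.factorization_eq_zero_of_not_dvd hZp, add_zero]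
  refine ⟨φ.1, φ.2, fun P => ⟨?_, fun x hx hx1 => ?_⟩⟩
  · rw [P.card_eq_multiplicity]
    exact ((hφ 1).symm.trans h1).trans (by rw [hcard])
  · obtain ⟨g, rfl⟩ := QuotientGroup.mk_surjective x
    show (φ : Matrix.SpecialLinearGroup (Fin n) F ⧸ Z → ℂ) (g : Matrix.SpecialLinearGroup (Fin n) F ⧸ Z) = 0
    rw [← hφ g]
    refine CfsgLib.Block.eq_zero_of_defectZero hp χ (dvd_of_eq ?_) ?_
    · rw [Cfsg.charDegree, h1, Complex.natCast_re, Nat.floor_natCast]
    · obtain ⟨k, hk⟩ := IsPGroup.iff_orderOf.1 P.2 ⟨_, hx⟩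
      rw [Subgroup.orderOf_mk] at hk
      have hk0 : k ≠ 0 := fun e => hx1 (orderOf_eq_one_iff.1 (by rw [hk, e, pow_zero]))
      exact (hk ▸ dvd_pow_self p hk0).trans (orderOf_map_dvd (QuotientGroup.mk' Z) g)

end CfsgLib.GLn
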